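import Cfsg.Agent.CharExt.DihedralEight
import Cfsg.Agent.S0215
import Cfsg.Agent.S0848
import Cfsg.Agent.S0495
import Cfsg.Agent.S0497
import Cfsg.Agent.S3278
import Cfsg.Agent.Linear.SmallIsoSeven
import Cfsg.Agent.Invol.KleinFour
import Cfsg.Agent.Cores.Basic
import Cfsg.Agent.Cores.Pi
import Cfsg.Agent.Transfer.Frobenius
import Cfsg.Agent.Fusion.Basic
import Cfsg.Agent.PGroup.Basic
import Cfsg.Agent.Components.Factorization
import Cfsg.Agent.Linear.Orders
import Mathlib.GroupTheory.SpecificGroups.Alternating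

/-!
Finite groups with an involution whose centralizer is dihedral of order 8.
-/

set_option autoImplicit false
set_option linter.style.haveILetI false

open scoped commutatorElement

namespace Cfsg.Agent.LocEven.D8Cent

open Subgroup

theorem d8_noncentral : ∀ d : DihedralGroup 4, d * d = 1 → d ≠ 1 → d ≠ DihedralGroup.r 2 →
    (∃ b, b * d * b⁻¹ = d * DihedralGroup.r 2) ∧
      (∀ c, c * d = d * c → c = 1 ∨ c = DihedralGroup.r 2 ∨ c = d ∨ c = d * DihedralGroup.r 2) := by
  decide +kernel

theorem d8_center : ∀ d : DihedralGroup 4, d ≠ 1 → (∀ c, c * d = d * c) → d = DihedralGroup.r 2 := by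
  decide +kernel

theorem relIndex_dvd_index_right {G : Type*} [Group G] [Finite G] (S D : Subgroup G) [D.Normal] :
    S.relIndex D ∣ S.index := by
  have e1 := Subgroup.relIndex_mul_relIndex ⊥ D (S ⊔ D) bot_le le_sup_right
  rw [Subgroup.relIndex_bot_left, Subgroup.relIndex_bot_left, Subgroup.relIndex_sup_right] at e1
  have e2 := Subgroup.relIndex_mul_relIndex ⊥ (S ⊓ D) S bot_le inf_le_left
  rw [Subgroup.relIndex_bot_left, Subgroup.relIndex_bot_left, Subgroup.inf_relIndex_left] at e2
  have e3 := Subgroup.relIndex_mul_relIndex ⊥ (S ⊓ D) D bot_le inf_le_right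
  rw [Subgroup.relIndex_bot_left, Subgroup.relIndex_bot_left, Subgroup.inf_relIndex_right] at e3
  have e4 := Subgroup.relIndex_mul_relIndex ⊥ S (S ⊔ D) bot_le le_sup_left
  rw [Subgroup.relIndex_bot_left, Subgroup.relIndex_bot_left] at e4
  have h : S.relIndex (S ⊔ D) = S.relIndex D := by
    apply Nat.eq_of_mul_eq_mul_left (Nat.card_pos (α := S))
    rw [e4, ← e1, ← e2, ← e3]
    ring
  rw [← h]
  exact Subgroup.relIndex_dvd_index_of_le le_sup_left

/-- The data. -/
structure Data {G : Type*} [Group G] [Finite G] (z : G) (S : Sylow 2 G) : Prop where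
  ord : orderOf z = 2
  mem : z ∈ S
  card : Nat.card (S : Subgroup G) = 8
  cen : ∀ x : G, x ∈ S ↔ x * z = z * x
  equiv : Nonempty (↥(S : Subgroup G) ≃* DihedralGroup 4)
  center_eq : ∀ x ∈ S, x ≠ 1 → (∀ y ∈ S, y * x = x * y) → x = z
  split : ∀ a ∈ S, orderOf a = 2 → a ≠ z → (∃ b ∈ S, b * a * b⁻¹ = a * z) ∧
    ∀ c ∈ S, c * a = a * c → c = 1 ∨ c = z ∨ c = a ∨ c = a * z

theorem exists_data {G : Type*} [Group G] [Finite G] (z : G) (hz : orderOf z = 2)
    (e : ↥(Subgroup.centralizer ({z} : Set G)) ≃* DihedralGroup 4) : ∃ S, Data z S := by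
  obtain ⟨S, hS⟩ := CharExt.D8.exists_sylow hz e
  have hmem : ∀ x : G, x ∈ S ↔ x * z = z * x := fun x => by
    show x ∈ (S : Subgroup G) ↔ _
    rw [hS]; exact mem_centralizer_singleton_iff
  have hze := CharExt.D8.image_t hz e
  refine ⟨S, hz, (hmem z).2 rfl, by rw [hS, CharExt.D8.natCard_centralizer e], hmem, ⟨(MulEquiv.subgroupCongr hS).trans e⟩, ?_, ?_⟩
  · intro x hx hx1 h
    have hx' : x ∈ Subgroup.centralizer ({z} : Set G) := hS.le hx
    have := d8_center (e ⟨x, hx'⟩) (fun h' => hx1 (congrArg Subtype.val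
      (e.injective (h'.trans e.map_one.symm)))) (fun c => by
        obtain ⟨y, rfl⟩ := e.surjective c
        rw [← map_mul, ← map_mul]
        exact congrArg e (Subtype.ext (h y (hS.ge y.2))))
    exact congrArg Subtype.val (e.injective (this.trans hze.symm))
  · intro a ha ha2 haz
    have ha' : a ∈ Subgroup.centralizer ({z} : Set G) := hS.le ha
    have ha1 : a ≠ 1 := fun h => by rw [h, orderOf_one] at ha2; omega
    obtain ⟨⟨b, hb⟩, hc⟩ := d8_noncentral (e ⟨a, ha'⟩)
      (by
        rw [← map_mul, ← e.map_one]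
        refine congrArg e (Subtype.ext ?_)
        show a * a = 1
        rw [← pow_two, ← ha2, pow_orderOf_eq_one])
      (fun h' => ha1 (congrArg Subtype.val (e.injective (h'.trans e.map_one.symm))))
      (fun h' => haz (congrArg Subtype.val (e.injective (h'.trans hze.symm))))
    obtain ⟨b, rfl⟩ := e.surjective b
    refine ⟨⟨b, hS.ge b.2, ?_⟩, fun c hcS hca => ?_⟩
    · rw [← hze, ← map_inv, ← map_mul, ← map_mul, ← map_mul] at hb
      exact congrArg Subtype.val (e.injective hb)
    · have hc' : c ∈ Subgroup.centralizer ({z} : Set G) := hS.le hcS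
      have h4 := hc (e ⟨c, hc'⟩) (by
        rw [← map_mul, ← map_mul]; exact congrArg e (Subtype.ext hca))
      rw [← hze, ← e.map_one, ← map_mul] at h4
      rcases h4 with h | h | h | h
      · exact Or.inl (congrArg Subtype.val (e.injective h))
      · exact Or.inr (Or.inl (congrArg Subtype.val (e.injective h)))
      · exact Or.inr (Or.inr (Or.inl (congrArg Subtype.val (e.injective h))))
      · exact Or.inr (Or.inr (Or.inr (congrArg Subtype.val (e.injective h))))

section

variable {G : Type*} [Group G] [Finite G] {z : G} {S : Sylow 2 G} (d : Data z S)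
include d

theorem mul_self_z : z * z = 1 := by rw [← pow_two, ← d.ord, pow_orderOf_eq_one]

theorem inv_z : z⁻¹ = z := inv_eq_of_mul_eq_one_left (mul_self_z d)

theorem isolated_case (h : ∀ g : G, g * z * g⁻¹ ∈ S → g * z * g⁻¹ = z) :
    Subgroup.centralizer ({z} : Set G) ⊔ Cfsg.oddCore G = ⊤ := by
  obtain ⟨N, hN, hodd, hc⟩ := Cfsg.Agent.S0215.result S z d.ord d.mem h
  haveI := hN
  refine top_le_iff.1 fun g _ => ?_
  set n := g * z * g⁻¹ * z with hn
  have hnN : n ∈ N := by
    have h1 := N.inv_mem (hc g)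
    have : n = (z * g * z⁻¹ * g⁻¹)⁻¹ := by
      rw [hn]; simp [mul_assoc, inv_z d]
    rwa [this]
  have hzn : z * n * z = n⁻¹ := by
    rw [hn]
    simp [mul_assoc, mul_self_z d, inv_z d]
  obtain ⟨j, hj⟩ : Odd (orderOf n) := hodd.of_dvd_nat (by
    have := orderOf_dvd_natCard (⟨n, hnN⟩ : N)
    rwa [Subgroup.orderOf_mk] at this)
  set m := n ^ (j + 1) with hm
  have hm2 : m * m = n := by
    rw [hm, ← pow_add, show j + 1 + (j + 1) = orderOf n + 1 by omega, pow_succ,
      pow_orderOf_eq_one, one_mul]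
  have hzm : z * m⁻¹ * z = m := by
    have : z * m * z = m⁻¹ := by
      have h1 : (z * n * z⁻¹) ^ (j + 1) = z * n ^ (j + 1) * z⁻¹ := conj_pow
      rw [inv_z d, hzn, inv_pow, ← hm] at h1
      exact h1.symm
    rw [← this]
    simp [← mul_assoc, mul_self_z d]
    simp [mul_assoc, mul_self_z d]
  have hg : m⁻¹ * g ∈ Subgroup.centralizer ({z} : Set G) := by
    rw [mem_centralizer_singleton_iff]
    have h1 : g * z * g⁻¹ = m * z * m⁻¹ := by
      calc g * z * g⁻¹ = n * z := by rw [hn, mul_assoc (g * z * g⁻¹), mul_self_z d, mul_one]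
        _ = m * (m * z) := by rw [← hm2, mul_assoc]
        _ = m * (z * m⁻¹) := by
            congr 1
            calc m * z = z * m⁻¹ * z * z := by rw [hzm]
              _ = z * m⁻¹ := by rw [mul_assoc (z * m⁻¹), mul_self_z d, mul_one]
        _ = _ := by group
    calc m⁻¹ * g * z = m⁻¹ * (g * z * g⁻¹) * g := by group
      _ = z * (m⁻¹ * g) := by rw [h1]; group
  have := mul_mem (mem_sup_right (S := Subgroup.centralizer ({z} : Set G))
    (Cores.le_oddCore hN hodd (pow_mem hnN (j + 1)))) (mem_sup_left (T := Cfsg.oddCore G) hg)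
  rwa [← hm, mul_inv_cancel_left] at this

variable {a : G} (g₀ : G) (hga : g₀ * z * g₀⁻¹ = a) (ha : a ∈ S) (haz : a ≠ z)
include hga ha haz

omit ha haz in
theorem ord_a : orderOf a = 2 := by
  rw [← hga, ← MulAut.conj_apply, MulEquiv.orderOf_eq, d.ord]

theorem conj_az : ∃ g, g * z * g⁻¹ = a * z := by
  obtain ⟨⟨b, -, hb⟩, -⟩ := d.split a ha (ord_a d g₀ hga) haz
  exact ⟨b * g₀, by rw [← hb, ← hga]; group⟩

theorem oddCore_eq_bot : Cfsg.oddCore G = ⊥ := by
  set N := Cfsg.oddCore G
  haveI hN : N.Normal := Cores.pPrimeCore_normal_inst 2 G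
  have hodd : Odd (Nat.card N) := Cores.odd_card_oddCore
  have hfix : ∀ (g : G) (x : G), x ∈ N → x * (g * z * g⁻¹) = g * z * g⁻¹ * x → x = 1 := by
    intro g x hx hc
    have h1 : g⁻¹ * x * g ∈ N := by simpa using hN.conj_mem x hx g⁻¹
    have h2 : g⁻¹ * x * g ∈ S := (d.cen _).2 (by
      calc g⁻¹ * x * g * z = g⁻¹ * (x * (g * z * g⁻¹)) * g := by group
        _ = g⁻¹ * (g * z * g⁻¹ * x) * g := by rw [hc]
        _ = _ := by group)
    have h3 : orderOf (g⁻¹ * x * g) ∣ Nat.gcd (Nat.card N) (Nat.card (S : Subgroup G)) := by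
      refine Nat.dvd_gcd ?_ ?_
      · have := orderOf_dvd_natCard (⟨_, h1⟩ : N); rwa [Subgroup.orderOf_mk] at this
      · have := orderOf_dvd_natCard (⟨_, h2⟩ : (S : Subgroup G)); rwa [Subgroup.orderOf_mk] at this
    have h4 : Nat.gcd (Nat.card N) (Nat.card (S : Subgroup G)) = 1 := by
      rw [d.card]
      exact Nat.Coprime.pow_right 3 (Nat.coprime_two_right.2 hodd)
    rw [h4, Nat.dvd_one, orderOf_eq_one_iff] at h3
    calc x = g * (g⁻¹ * x * g) * g⁻¹ := by group
      _ = 1 := by rw [h3]; group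
  have hinv : ∀ g : G, ∀ x ∈ N, g * z * g⁻¹ * x * (g * z * g⁻¹) = x⁻¹ := by
    intro g
    set u := g * z * g⁻¹ with hu
    have huu : u * u = 1 := by
      rw [hu]; calc g * z * g⁻¹ * (g * z * g⁻¹) = g * (z * z) * g⁻¹ := by group
        _ = 1 := by rw [mul_self_z d]; group
    have huinv : u⁻¹ = u := inv_eq_of_mul_eq_one_left huu
    let f : N → N := fun x => ⟨x * (u * (x : G)⁻¹ * u⁻¹), N.mul_mem x.2 (hN.conj_mem _ (N.inv_mem x.2) u)⟩
    have hf : Function.Injective f := by
      intro x y hxy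
      have h : (x : G) * (u * (x : G)⁻¹ * u⁻¹) = y * (u * (y : G)⁻¹ * u⁻¹) := congrArg Subtype.val hxy
      have h' : (y : G)⁻¹ * x * u = u * ((y : G)⁻¹ * x) := by
        have e1 := congrArg (fun w => (y : G)⁻¹ * w * u * x) h
        simpa [mul_assoc] using e1
      exact Subtype.ext (inv_mul_eq_one.1 (hfix g _ (N.mul_mem (N.inv_mem y.2) x.2) h')).symm
    intro x hx
    obtain ⟨n, hn⟩ := (Finite.injective_iff_surjective.1 hf) ⟨x, hx⟩
    have hn' : (n : G) * (u * (n : G)⁻¹ * u⁻¹) = x := congrArg Subtype.val hn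
    rw [← hn', huinv]
    have : ∀ w : G, u * (u * w) = w := fun w => by rw [← mul_assoc, huu, one_mul]
    simp [mul_assoc, huinv, huu, this]
  rw [eq_bot_iff]
  intro x hx
  obtain ⟨g', hg'⟩ := conj_az d g₀ hga ha haz
  have h1 := hinv 1 x hx
  rw [one_mul, inv_one, mul_one] at h1
  have h2 := hinv g₀ _ (N.inv_mem hx)
  rw [hga, inv_inv] at h2
  refine Subgroup.mem_bot.2 (hfix g' x hx ?_)
  rw [hg']
  have hz' : z * x = x⁻¹ * z := by
    rw [← h1]; simp [mul_assoc, mul_self_z d]
  have haa : a * a = 1 := by rw [← pow_two, ← ord_a d g₀ hga, pow_orderOf_eq_one]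
  have ha' : a * x⁻¹ = x * a := by
    calc a * x⁻¹ = a * x⁻¹ * (a * a) := by rw [haa, mul_one]
      _ = x * a := by rw [← mul_assoc, h2]
  calc x * (a * z) = a * x⁻¹ * z := by rw [ha', mul_assoc]
    _ = a * z * x := by rw [mul_assoc, ← hz', mul_assoc]

/-- The four group. -/
theorem exists_four : ∃ V : Subgroup G, V ≤ (S : Subgroup G) ∧ Nat.card V = 4 ∧ IsKleinFour V ∧
    z ∈ V ∧ a ∈ V ∧ (∀ v ∈ V, v = 1 ∨ v = z ∨ v = a ∨ v = a * z) ∧
    (∀ v ∈ V, v ≠ 1 → ∃ g, g * z * g⁻¹ = v) ∧
    Subgroup.centralizer (V : Set G) ≤ V := by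
  set V := (S : Subgroup G) ⊓ Subgroup.centralizer ({a} : Set G) with hV
  have hz1 : z ≠ 1 := fun h => by have := d.ord; rw [h, orderOf_one] at this; omega
  have ha1 : a ≠ 1 := fun h => by have := ord_a d g₀ hga; rw [h, orderOf_one] at this; omega
  have haz' : a * z = z * a := (d.cen a).1 ha
  have hzV : z ∈ V := ⟨d.mem, mem_centralizer_singleton_iff.2 haz'.symm⟩
  have haV : a ∈ V := ⟨ha, mem_centralizer_singleton_iff.2 rfl⟩
  obtain ⟨g', hg'⟩ := conj_az d g₀ hga ha haz
  have hcases : ∀ v ∈ V, v = 1 ∨ v = z ∨ v = a ∨ v = a * z := fun v hv =>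
    (d.split a ha (ord_a d g₀ hga) haz).2 v hv.1 (mem_centralizer_singleton_iff.1 hv.2)
  have haz1 : a * z ≠ 1 := fun h => haz ((mul_eq_one_iff_eq_inv.1 h).trans (inv_z d))
  have hset : (V : Set G) = {1, z, a, a * z} := by
    ext v
    refine ⟨fun hv => by simpa using hcases v hv, ?_⟩
    rintro (rfl | rfl | rfl | rfl)
    exacts [V.one_mem, hzV, haV, V.mul_mem haV hzV]
  have hcard : Nat.card V = 4 := by
    have e1 : (1 : G) ∉ ({z, a, a * z} : Set G) := by
      rintro (h | h | h)
      exacts [hz1 h.symm, ha1 h.symm, haz1 h.symm]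
    have e2 : z ∉ ({a, a * z} : Set G) := by
      rintro (h | h)
      exacts [haz h.symm, ha1 (mul_eq_right.1 h.symm)]
    have e3 : a ∉ ({a * z} : Set G) := fun h => hz1 (mul_eq_left.1 h.symm)
    show Nat.card (V : Set G) = 4
    rw [hset, Nat.card_coe_set_eq, Set.ncard_insert_of_notMem e1 (Set.toFinite _),
      Set.ncard_insert_of_notMem e2 (Set.toFinite _), Set.ncard_insert_of_notMem e3 (Set.toFinite _),
      Set.ncard_singleton]
  have hconj : ∀ v ∈ V, v ≠ 1 → ∃ g, g * z * g⁻¹ = v := by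
    intro v hv hv1
    rcases hcases v hv with h | h | h | h
    · exact absurd h hv1
    · exact ⟨1, by simp [h]⟩
    · exact ⟨g₀, by rw [hga, h]⟩
    · exact ⟨g', by rw [hg', h]⟩
  have hsq : ∀ v : V, v * v = 1 := by
    intro v
    refine Subtype.ext ?_
    show (v : G) * v = 1
    by_cases h : (v : G) = 1
    · rw [h, one_mul]
    obtain ⟨g, hg⟩ := hconj v v.2 h
    rw [← hg]
    calc g * z * g⁻¹ * (g * z * g⁻¹) = g * (z * z) * g⁻¹ := by group
      _ = 1 := by rw [mul_self_z d]; group
  refine ⟨V, inf_le_left, hcard, ⟨hcard, ?_⟩, hzV, haV, hcases, hconj, ?_⟩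
  · refine ((Nat.dvd_prime Nat.prime_two).1 (Monoid.exponent_dvd_of_forall_pow_eq_one fun v => by
      rw [pow_two]; exact hsq v)).resolve_left fun h => ?_
    have : Subsingleton V := Monoid.exp_eq_one_iff.1 h
    exact hz1 (congrArg Subtype.val (Subsingleton.elim (⟨z, hzV⟩ : V) 1))
  · intro c hc
    rw [Subgroup.mem_centralizer_iff] at hc
    exact ⟨(d.cen c).2 (hc z hzV).symm, mem_centralizer_singleton_iff.2 (hc a haV).symm⟩

/-- The symmetric group of degree four. -/
theorem pCore_case (hQ : Cfsg.pCore 2 G ≠ ⊥) : Nonempty (G ≃* Equiv.Perm (Fin 4)) := by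
  haveI : Fact (Nat.Prime 2) := ⟨Nat.prime_two⟩
  haveI : Fact (Nat.Prime 3) := ⟨Nat.prime_three⟩
  set Q := Cfsg.pCore 2 G
  haveI hQn : Q.Normal := Cores.pCore_normal_inst 2 G
  have hQS : Q ≤ (S : Subgroup G) := Cores.pCore_le_sylow S
  have hzQ : z ∈ Q := by
    set R := Q.subgroupOf (S : Subgroup G) with hR
    have hR1 : R ≠ ⊥ := fun h => hQ (by
      have := Subgroup.map_subgroupOf_eq_of_le hQS
      rw [← hR, h, Subgroup.map_bot] at this; exact this.symm)
    haveI : R.Normal := hQn.subgroupOf _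
    obtain ⟨w, hw, hw1⟩ := (Subgroup.bot_or_exists_ne_one _).resolve_left
      (PGroup.inf_center_ne_bot S.2 R hR1)
    have : (w : G) = z := d.center_eq w w.2 (fun h => hw1 (Subtype.ext h))
      (fun y hy => congrArg Subtype.val (Subgroup.mem_center_iff.1 hw.2 ⟨y, hy⟩))
    rw [← this]
    exact hw.1
  obtain ⟨V, hVS, hVcard, hVK, hzV, haV, hVcases, hVconj, hVC⟩ := exists_four d g₀ hga ha haz
  set K := Subgroup.normalClosure ({z} : Set G) with hK
  have hKQ : K ≤ Q := Subgroup.normalClosure_le_normal (Set.singleton_subset_iff.2 hzQ)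
  have hKmem : ∀ g : G, g * z * g⁻¹ ∈ K := fun g =>
    Subgroup.normalClosure_normal.conj_mem z (Subgroup.subset_normalClosure (Set.mem_singleton z)) g
  have hVK' : V ≤ K := fun v hv => by
    by_cases h : v = 1
    · rw [h]; exact one_mem _
    · obtain ⟨g, hg⟩ := hVconj v hv h
      rw [← hg]; exact hKmem g
  have hKne : K ≠ (S : Subgroup G) := fun h => haz (by
    have h1 : a ∈ (S : Subgroup G) := ha
    refine d.center_eq a h1 (fun e => by have := ord_a d g₀ hga; rw [e, orderOf_one] at this; omega)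
      fun y hy => ?_
    have hy' : g₀⁻¹ * y * g₀ ∈ K := by
      simpa using Subgroup.normalClosure_normal.conj_mem y (h.ge hy) g₀⁻¹
    have h2 := (d.cen _).1 (h.le hy')
    calc y * a = g₀ * (g₀⁻¹ * y * g₀ * z) * g₀⁻¹ := by rw [← hga]; group
      _ = g₀ * (z * (g₀⁻¹ * y * g₀)) * g₀⁻¹ := by rw [h2]
      _ = a * y := by rw [← hga]; group)
  have hKV : K = V := by
    refine (Subgroup.eq_of_le_of_card_ge hVK' ?_).symm
    have h1 : Nat.card K ∣ 2 ^ 3 := by
      have := Subgroup.card_dvd_of_le (hKQ.trans hQS)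
      rwa [d.card] at this
    obtain ⟨i, hi, hi'⟩ := (Nat.dvd_prime_pow Nat.prime_two).1 h1
    have h2 : Nat.card K ≠ 8 := fun h => hKne (Subgroup.eq_of_le_of_card_ge (hKQ.trans hQS)
      (by rw [d.card, h]))
    rw [hVcard, hi']
    interval_cases i <;> simp_all
  haveI hVn : V.Normal := hKV ▸ Subgroup.normalClosure_normal
  -- the order
  have hcardG : Nat.card G = 24 := by
    let X := {v : G // v ∈ V ∧ v ≠ 1}
    have hX : Nat.card X = 3 := by
      show Nat.card {v : G | v ∈ V ∧ v ≠ 1} = 3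
      rw [show {v : G | v ∈ V ∧ v ≠ 1} = (V : Set G) \ {1} from rfl, Nat.card_coe_set_eq,
        Set.ncard_sdiff_singleton_of_mem V.one_mem, ← Nat.card_coe_set_eq]
      show Nat.card V - 1 = 3
      rw [hVcard]
    let act : G →* Equiv.Perm X :=
      { toFun := fun g =>
          { toFun := fun v => ⟨g * v * g⁻¹, hVn.conj_mem _ v.2.1 g, fun h => v.2.2 (by
              calc (v : G) = g⁻¹ * (g * v * g⁻¹) * g := by group
                _ = 1 := by rw [h]; group)⟩
            invFun := fun v => ⟨g⁻¹ * v * g, by simpa using hVn.conj_mem _ v.2.1 g⁻¹, fun h => v.2.2 (by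
              calc (v : G) = g * (g⁻¹ * v * g) * g⁻¹ := by group
                _ = 1 := by rw [h]; group)⟩
            left_inv := fun v => Subtype.ext (by simp [mul_assoc])
            right_inv := fun v => Subtype.ext (by simp [mul_assoc]) }
        map_one' := Equiv.ext fun v => Subtype.ext (by simp)
        map_mul' := fun g h => Equiv.ext fun v => Subtype.ext (by simp [mul_assoc]) }
    have hker : act.ker ≤ V := fun c hc => hVC (Subgroup.mem_centralizer_iff.2 fun v hv => by
      by_cases h : v = 1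
      · simp [h]
      have := congrArg Subtype.val (Equiv.congr_fun (MonoidHom.mem_ker.1 hc) ⟨v, hv, h⟩)
      change c * v * c⁻¹ = v at this
      exact (mul_inv_eq_iff_eq_mul.1 this).symm)
    have h1 : Nat.card act.range ∣ 6 := by
      have := Subgroup.card_subgroup_dvd_card act.range
      rwa [Nat.card_perm, hX] at this
    have h2 : Nat.card G = Nat.card act.range * Nat.card act.ker := by
      rw [← Subgroup.index_ker, Subgroup.index_mul_card]
    have h3 : Nat.card act.ker ∣ 4 := hVcard ▸ Subgroup.card_dvd_of_le hker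
    have h4 : 8 ∣ Nat.card G := d.card ▸ Subgroup.card_subgroup_dvd_card _
    have h5 : Nat.card G ≠ 8 := fun h => haz (by
      have hS : (S : Subgroup G) = ⊤ := Subgroup.eq_top_of_card_eq _ (by rw [d.card, h])
      rw [← hga]
      have := (d.cen g₀).1 (show g₀ ∈ (S : Subgroup G) by rw [hS]; exact mem_top _)
      rw [this, mul_inv_cancel_right])
    have h6 : Nat.card G ∣ 24 := by rw [h2]; exact Nat.mul_dvd_mul h1 h3
    have h7 : Nat.card G ≤ 24 := Nat.le_of_dvd (by norm_num) h6
    have h8 : 0 < Nat.card G := Nat.card_pos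
    interval_cases h : Nat.card G <;> omega
  -- the four Sylow 3-subgroups
  have hPne : ∀ P : Sylow 3 G, Nat.card (P : Subgroup G) = 3 := fun P => by
    rw [Sylow.card_eq_multiplicity, hcardG]
    have : Nat.factorization 24 3 = 1 := by
      rw [Nat.factorization_def _ Nat.prime_three]
      decide +kernel
    rw [this, pow_one]
  have hcomm : ∀ (P : Sylow 3 G) (v : G), v ∈ V →
      v ∈ Subgroup.normalizer ((P : Subgroup G) : Set G) → v = 1 := by
    intro P v hv hvN
    by_contra hv1
    obtain ⟨g, hg⟩ := hVconj v hv hv1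
    haveI : Nontrivial (P : Subgroup G) := Finite.one_lt_card_iff_nontrivial.1 (by rw [hPne]; omega)
    obtain ⟨x, hx⟩ := exists_ne (1 : (P : Subgroup G))
    have hmem : ⁅(x : G), v⁆ ∈ (P : Subgroup G) ⊓ V := by
      refine ⟨?_, ?_⟩
      · rw [commutatorElement_def, show (x : G) * v * (x : G)⁻¹ * v⁻¹ = x * (v * (x : G)⁻¹ * v⁻¹) by group]
        exact (P : Subgroup G).mul_mem x.2 ((Subgroup.mem_normalizer_iff.1 hvN _).1 (inv_mem x.2))
      · rw [commutatorElement_def]
        exact V.mul_mem (hVn.conj_mem v hv x) (V.inv_mem hv)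
    have hbot : (P : Subgroup G) ⊓ V = ⊥ := Subgroup.inf_eq_bot_of_coprime (by
      rw [hPne, hVcard]; norm_num)
    rw [hbot, Subgroup.mem_bot, commutatorElement_eq_one_iff_mul_comm] at hmem
    have hxS : g⁻¹ * x * g ∈ (S : Subgroup G) := (d.cen _).2 (by
      calc g⁻¹ * x * g * z = g⁻¹ * (x * (g * z * g⁻¹)) * g := by group
        _ = g⁻¹ * (g * z * g⁻¹ * x) * g := by rw [hg, hmem]
        _ = _ := by group)
    have h3 : orderOf (g⁻¹ * x * g) ∣ Nat.gcd 3 8 := by
      refine Nat.dvd_gcd ?_ ?_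
      · rw [show g⁻¹ * (x : G) * g = MulAut.conj g⁻¹ x by simp, MulEquiv.orderOf_eq]
        rw [Subgroup.orderOf_coe]; exact (orderOf_dvd_natCard x).trans (dvd_of_eq (hPne P))
      · have := orderOf_dvd_natCard (⟨_, hxS⟩ : (S : Subgroup G))
        rwa [Subgroup.orderOf_mk, d.card] at this
    have h4 : g⁻¹ * (x : G) * g = 1 := orderOf_eq_one_iff.1 (Nat.dvd_one.1 h3)
    exact hx (Subtype.ext (by
      calc (x : G) = g * (g⁻¹ * x * g) * g⁻¹ := by group
        _ = 1 := by rw [h4]; group))
  have hn3 : Nat.card (Sylow 3 G) = 4 := by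
    obtain ⟨P⟩ : Nonempty (Sylow 3 G) := inferInstance
    have h1 : Nat.card (Sylow 3 G) ∣ (P : Subgroup G).index := P.card_dvd_index
    have h2 : (P : Subgroup G).index = 8 := by
      have := (P : Subgroup G).card_mul_index
      rw [hPne, hcardG] at this; omega
    rw [h2] at h1
    have h3 : Nat.card (Sylow 3 G) ≡ 1 [MOD 3] := card_sylow_modEq_one 3 G
    have h4 : Nat.card (Sylow 3 G) ≠ 1 := fun h => by
      have hn : (P : Subgroup G).Normal := by
        rw [← Subgroup.normalizer_eq_top_iff, ← Subgroup.index_eq_one]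
        exact P.card_eq_index_normalizer.symm.trans h
      have := hcomm P z hzV (by rw [Subgroup.normalizer_eq_top (h := hn)]; exact mem_top _)
      have h' := d.ord
      rw [this, orderOf_one] at h'; omega
    unfold Nat.ModEq at h3
    have h5 := Nat.le_of_dvd (by norm_num) h1
    interval_cases h : Nat.card (Sylow 3 G) <;> omega
  let φ : G →* Equiv.Perm (Sylow 3 G) := MulAction.toPermHom G (Sylow 3 G)
  have hker : φ.ker = ⊥ := by
    have h1 : φ.ker ⊓ V = ⊥ := by
      rw [eq_bot_iff]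
      intro v hv
      obtain ⟨P⟩ : Nonempty (Sylow 3 G) := inferInstance
      refine Subgroup.mem_bot.2 (hcomm P v hv.2 ?_)
      exact Sylow.smul_eq_iff_mem_normalizer.1 (Equiv.congr_fun (MonoidHom.mem_ker.1 hv.1) P)
    have h2 : φ.ker ≤ V := by
      refine fun k hk => hVC (Subgroup.mem_centralizer_iff.2 fun v hv => ?_)
      have : ⁅v, k⁆ ∈ φ.ker ⊓ V := ⟨by
        rw [commutatorElement_def]
        exact φ.ker.mul_mem ((φ.normal_ker).conj_mem k hk v) (φ.ker.inv_mem hk), by
        rw [commutatorElement_def, show v * k * v⁻¹ * k⁻¹ = v * (k * v⁻¹ * k⁻¹) by group]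
        exact V.mul_mem hv (hVn.conj_mem _ (V.inv_mem hv) k)⟩
      rw [h1, Subgroup.mem_bot, commutatorElement_eq_one_iff_mul_comm] at this
      exact this
    rw [← inf_eq_left.2 h2, h1]
  have hinj : Function.Injective φ := (MonoidHom.ker_eq_bot_iff φ).1 hker
  have hbij : Function.Bijective φ := hinj.bijective_of_nat_card_le (by
    rw [Nat.card_perm, hn3, hcardG]; rfl)
  exact ⟨(MulEquiv.ofBijective φ hbij).trans
    ((Finite.equivFinOfCardEq hn3).permCongrHom)⟩

/-- The remaining groups. -/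
theorem simple_case (hQ : Cfsg.pCore 2 G = ⊥) :
    Nonempty (G ≃* Equiv.Perm (Fin 5)) ∨
      Nonempty (G ≃* Matrix.SpecialLinearGroup (Fin 3) (ZMod 2)) ∨
      Nonempty (G ≃* ↥(alternatingGroup (Fin 6))) := by
  classical
  haveI : Fact (Nat.Prime 2) := ⟨Nat.prime_two⟩
  have hO := oddCore_eq_bot d g₀ hga ha haz
  obtain ⟨V, hVS, hVcard, hVK, hzV, haV, hVcases, hVconj, hVC⟩ := exists_four d g₀ hga ha haz
  have hz1 : z ≠ 1 := fun h => by have := d.ord; rw [h, orderOf_one] at this; omega
  -- normal subgroups contain `z`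
  have hnz : ∀ N : Subgroup G, N.Normal → N ≠ ⊥ → z ∈ N := by
    intro N hN hN1
    haveI := hN
    set R := N.subgroupOf (S : Subgroup G) with hR
    have hR1 : R ≠ ⊥ := by
      intro h
      have hodd : Odd (Nat.card N) := by
        by_contra hev
        rw [Nat.not_odd_iff_even] at hev
        obtain ⟨w, hw⟩ := exists_prime_orderOf_dvd_card' (G := N) 2 hev.two_dvd
        have hp : IsPGroup 2 (Subgroup.zpowers (w : G)) := IsPGroup.of_card (n := 1) (by
          rw [Nat.card_zpowers, Subgroup.orderOf_coe, hw, pow_one])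
        obtain ⟨P, hP⟩ := hp.exists_le_sylow
        obtain ⟨g, hg⟩ := Fusion.exists_cj_sylow P S
        have h1 : g * w * g⁻¹ ∈ (S : Subgroup G) := by
          rw [← hg]; exact Fusion.conj_mem_cj.2 (hP (Subgroup.mem_zpowers _))
        have h2 : (⟨_, h1⟩ : (S : Subgroup G)) ∈ R := hN.conj_mem w w.2 g
        rw [h, Subgroup.mem_bot] at h2
        have h3 : g * w * g⁻¹ = 1 := congrArg Subtype.val h2
        have h4 : (w : G) = 1 := by
          calc (w : G) = g⁻¹ * (g * w * g⁻¹) * g := by group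
            _ = 1 := by rw [h3]; group
        rw [← Subgroup.orderOf_coe, h4, orderOf_one] at hw; omega
      exact hN1 (le_bot_iff.1 (hO ▸ Cores.le_oddCore hN hodd))
    haveI : R.Normal := hN.subgroupOf _
    obtain ⟨w, hw, hw1⟩ := (Subgroup.bot_or_exists_ne_one _).resolve_left
      (PGroup.inf_center_ne_bot S.2 R hR1)
    have : (w : G) = z := d.center_eq w w.2 (fun h => hw1 (Subtype.ext h))
      (fun y hy => congrArg Subtype.val (Subgroup.mem_center_iff.1 hw.2 ⟨y, hy⟩))
    rw [← this]; exact hw.1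
  set M := Subgroup.normalClosure ({z} : Set G) with hM
  haveI hMn : M.Normal := Subgroup.normalClosure_normal
  have hzM : z ∈ M := Subgroup.subset_normalClosure rfl
  have hconjM : ∀ g : G, g * z * g⁻¹ ∈ M := hMn.conj_mem z hzM
  have hVM : V ≤ M := fun v hv => by
    by_cases h : v = 1
    · rw [h]; exact one_mem _
    · obtain ⟨g, hg⟩ := hVconj v hv h; rw [← hg]; exact hconjM g
  have hMmin : ∀ N : Subgroup G, N.Normal → N ≠ ⊥ → M ≤ N := fun N hN h => by
    haveI := hN
    exact Subgroup.normalClosure_le_normal (Set.singleton_subset_iff.2 (hnz N hN h))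
  -- the Sylow subgroup of `M`
  set T := (S : Subgroup G).subgroupOf M with hT
  let TM : Sylow 2 M := (S.2.comap_subtype (K := M)).toSylow
    (show ¬ 2 ∣ ((S : Subgroup G).subgroupOf M).index from fun hd =>
      Sylow.not_dvd_index S (hd.trans (relIndex_dvd_index_right (S : Subgroup G) M)))
  have hTM : (TM : Subgroup M) = T := rfl
  have hmapT : T.map M.subtype = (S : Subgroup G) ⊓ M := Subgroup.subgroupOf_map_subtype _ _
  have hMSle : (S : Subgroup G) ⊓ M = S ∨ (S : Subgroup G) ⊓ M = V := by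
    have h1 : Nat.card ↥((S : Subgroup G) ⊓ M) ∣ 2 ^ 3 := by
      have := Subgroup.card_dvd_of_le (inf_le_left : (S : Subgroup G) ⊓ M ≤ S)
      rwa [d.card] at this
    obtain ⟨i, hi, hi'⟩ := (Nat.dvd_prime_pow Nat.prime_two).1 h1
    have h2 : 4 ≤ Nat.card ↥((S : Subgroup G) ⊓ M) := hVcard ▸ Subgroup.card_le_of_le (le_inf hVS hVM)
    have hi3 : i = 2 ∨ i = 3 := by
      rw [hi'] at h2
      interval_cases i <;> simp_all
    rcases hi3 with rfl | rfl
    · exact Or.inr (Subgroup.eq_of_le_of_card_ge (le_inf hVS hVM) (by rw [hi', hVcard]; norm_num)).symm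
    · exact Or.inl (Subgroup.eq_of_le_of_card_ge inf_le_left (by rw [hi', d.card]; norm_num))
  -- all involutions of the small case are conjugate in `M`
  have hfour : (S : Subgroup G) ⊓ M = V → ∀ x y : M, orderOf x = 2 → orderOf y = 2 → IsConj x y := by
    intro hSV
    have hK : IsKleinFour (TM : Subgroup M) := by
      let e : ↥T ≃* ↥V := (T.equivMapOfInjective M.subtype M.subtype_injective).trans
        (MulEquiv.subgroupCongr (hmapT.trans hSV))
      exact ⟨by rw [hTM, Nat.card_congr e.toEquiv, hVcard],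
        by rw [hTM, Monoid.exponent_eq_of_mulEquiv e]; exact hVK.exponent_two⟩
    refine (Invol.klein_dichotomy TM hK).resolve_right fun h => ?_
    obtain ⟨P, N, hN, hc⟩ := Transfer.hasNormalPComplement_of_normalizer_le_centralizer TM h.1
    haveI := hN
    have hodd : Odd (Nat.card N) := Nat.coprime_two_right.1 <| Nat.Coprime.symm <|
      (Nat.prime_two.coprime_iff_not_dvd).2 (Transfer.card_coprime_of_mem_normal_complement P hc)
    have hNbot : N = ⊥ := by
      refine le_bot_iff.1 ((Cores.le_oddCore hN hodd).trans ?_)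
      have h1 : (Cfsg.oddCore ↥M).map M.subtype = M ⊓ Cfsg.oddCore G := Cores.map_subtype_pPrimeCore_eq
      rw [hO, inf_bot_eq] at h1
      exact ((Subgroup.map_eq_bot_iff_of_injective _ M.subtype_injective).1 h1).le
    have hp : IsPGroup 2 ↥M := by
      have h2 := hc.card_mul_card
      rw [hNbot, Subgroup.card_bot, one_mul] at h2
      obtain ⟨k, hk⟩ := P.2.exists_card_eq
      exact IsPGroup.of_card (n := k) (h2.symm.trans hk)
    exact hz1 (Subgroup.mem_bot.1 (hQ ▸ Cores.le_pCore hMn hp hzM))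
  -- simplicity
  have hsimp : IsSimpleGroup M := by
    haveI : Nontrivial M := ⟨⟨z, hzM⟩, 1, fun h => hz1 (congrArg Subtype.val h)⟩
    refine ⟨fun N hN => or_iff_not_imp_left.2 fun hN1 => ?_⟩
    haveI := hN
    have key : ∀ L : Subgroup M, L.Normal → L ≠ ⊥ → (⟨z, hzM⟩ : M) ∈ L := by
      intro L hL hL1
      haveI := hL
      set R := L.subgroupOf (TM : Subgroup M) with hR
      have hR1 : R ≠ ⊥ := by
        intro h
        have hdj : (TM : Subgroup M) ⊓ L = ⊥ := by
          rw [inf_comm, ← Subgroup.subgroupOf_map_subtype, ← hR, h, Subgroup.map_bot]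
        have hodd : Odd (Nat.card L) := by
          by_contra hev
          rw [Nat.not_odd_iff_even] at hev
          obtain ⟨w, hw⟩ := exists_prime_orderOf_dvd_card' (G := L) 2 hev.two_dvd
          have hp : IsPGroup 2 (Subgroup.zpowers (w : M)) := IsPGroup.of_card (n := 1) (by
            rw [Nat.card_zpowers, Subgroup.orderOf_coe, hw, pow_one])
          obtain ⟨P, hP⟩ := hp.exists_le_sylow
          obtain ⟨g, hg⟩ := Fusion.exists_cj_sylow P TM
          have h2 : g * w * g⁻¹ ∈ (TM : Subgroup M) ⊓ L := ⟨by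
            rw [← hg]; exact Fusion.conj_mem_cj.2 (hP (Subgroup.mem_zpowers _)), hL.conj_mem w w.2 g⟩
          rw [hdj, Subgroup.mem_bot] at h2
          have h4 : (w : M) = 1 := by
            calc (w : M) = g⁻¹ * (g * w * g⁻¹) * g := by group
              _ = 1 := by rw [h2]; group
          rw [← Subgroup.orderOf_coe, h4, orderOf_one] at hw; omega
        refine hL1 (le_bot_iff.1 ((Cores.le_oddCore hL hodd).trans ?_))
        have h1 : (Cfsg.oddCore ↥M).map M.subtype = M ⊓ Cfsg.oddCore G :=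
          Cores.map_subtype_pPrimeCore_eq
        rw [hO, inf_bot_eq] at h1
        exact ((Subgroup.map_eq_bot_iff_of_injective _ M.subtype_injective).1 h1).le
      haveI : R.Normal := hL.subgroupOf _
      obtain ⟨w, hw, hw1⟩ := (Subgroup.bot_or_exists_ne_one _).resolve_left
        (PGroup.inf_center_ne_bot TM.2 R hR1)
      rcases hMSle with hS' | hV'
      · have : ((w : M) : G) = z := d.center_eq _ w.2 (fun h => hw1 (Subtype.ext (Subtype.ext h)))
          (fun y hy => congrArg (fun u : (TM : Subgroup M) => ((u : M) : G))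
            (Subgroup.mem_center_iff.1 hw.2 ⟨⟨y, (hS'.ge hy).2⟩, hy⟩))
        have h2 : (⟨z, hzM⟩ : M) = (w : M) := Subtype.ext this.symm
        rw [h2]; exact hw.1
      · have hwV : ((w : M) : G) ∈ V := hV'.le ⟨w.2, (w : M).2⟩
        obtain ⟨g, hg⟩ := hVconj _ hwV (fun h => hw1 (Subtype.ext (Subtype.ext h)))
        have ho : orderOf (w : M) = 2 := by
          rw [← Subgroup.orderOf_coe, ← hg, ← MulAut.conj_apply, MulEquiv.orderOf_eq, d.ord]
        obtain ⟨m, hm⟩ := isConj_iff.1 (hfour hV' (w : M) ⟨z, hzM⟩ ho (by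
          rw [← Subgroup.orderOf_coe]; exact d.ord))
        rw [← hm]; exact hL.conj_mem _ hw.1 m
    -- the smallest normal subgroup of `M`
    set L₀ := Subgroup.normalClosure ({(⟨z, hzM⟩ : M)} : Set M) with hL₀
    haveI hL₀n : L₀.Normal := Subgroup.normalClosure_normal
    have hmin : ∀ L : Subgroup M, L.Normal → L ≠ ⊥ → L₀ ≤ L := fun L hL h => by
      haveI := hL
      exact Subgroup.normalClosure_le_normal (Set.singleton_subset_iff.2 (key L hL h))
    have hchar : L₀.Characteristic := by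
      rw [Subgroup.characteristic_iff_le_map]
      intro φ
      refine hmin _ (hL₀n.map _ φ.surjective) fun h => ?_
      rw [Subgroup.map_eq_bot_iff_of_injective _ φ.injective] at h
      have h2 := h.le (Subgroup.subset_normalClosure rfl)
      exact hz1 (congrArg Subtype.val (Subgroup.mem_bot.1 h2))
    have hn : (L₀.map M.subtype).Normal := Cores.normal_map_subtype_of_characteristic L₀
    have hle := hMmin _ hn fun h => by
      have h2 := h.le ⟨_, Subgroup.subset_normalClosure rfl, rfl⟩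
      exact hz1 (Subgroup.mem_bot.1 h2)
    rw [eq_top_iff]
    intro x _
    obtain ⟨y, hy, hyx⟩ := hle x.2
    rw [← Subtype.ext hyx]
    exact hmin N hN hN1 hy
  have hna : ¬ IsMulCommutative M := fun h => by
    have h1 : (⟨z, hzM⟩ : M) ∈ Subgroup.center M := Subgroup.mem_center_iff.2 fun x => h.is_comm.comm _ _
    have hle : M ≤ (S : Subgroup G) := fun x hx => (d.cen x).2
      (congrArg Subtype.val (Subgroup.mem_center_iff.1 h1 ⟨x, hx⟩))
    exact hz1 (Subgroup.mem_bot.1 (hQ ▸ Cores.le_pCore hMn (S.2.to_le hle) hzM))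
  have hz2 : orderOf (⟨z, hzM⟩ : M) = 2 := by rw [Subgroup.orderOf_mk]; exact d.ord
  -- `G` is the product of `M` and `S`
  have hfac : (∀ x : M, orderOf x = 2 → IsConj (⟨z, hzM⟩ : M) x) → M ⊔ (S : Subgroup G) = ⊤ := by
    intro hconj
    refine top_le_iff.1 fun g _ => ?_
    have h2 : orderOf (⟨g * z * g⁻¹, hconjM g⟩ : M) = 2 := by
      rw [Subgroup.orderOf_mk, ← MulAut.conj_apply, MulEquiv.orderOf_eq, d.ord]
    obtain ⟨m, hm⟩ := isConj_iff.1 (hconj _ h2)
    have hm' : (m : G) * z * (m : G)⁻¹ = g * z * g⁻¹ := congrArg Subtype.val hm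
    have hmg : (m : G)⁻¹ * g ∈ (S : Subgroup G) := (d.cen _).2 (by
      calc (m : G)⁻¹ * g * z = (m : G)⁻¹ * (g * z * g⁻¹) * g := by group
        _ = (m : G)⁻¹ * ((m : G) * z * (m : G)⁻¹) * g := by rw [hm']
        _ = _ := by group)
    have := mul_mem (Subgroup.mem_sup_left (T := (S : Subgroup G)) m.2)
      (Subgroup.mem_sup_right (S := M) hmg)
    rwa [mul_inv_cancel_left] at this
  rcases hMSle with hS' | hV'
  · -- `S ≤ M`
    right
    have hSM : (S : Subgroup G) ≤ M := hS'.ge.trans inf_le_right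
    have hperf : commutator M = ⊤ := by
      haveI := hsimp
      refine (IsSimpleGroup.eq_bot_or_eq_top_of_normal _ inferInstance).resolve_left fun h => hna ?_
      exact ⟨⟨fun x y => commutatorElement_eq_one_iff_mul_comm.1 (Subgroup.mem_bot.1
        (h ▸ Subgroup.commutator_mem_commutator (Subgroup.mem_top x) (Subgroup.mem_top y)))⟩⟩
    have hcS : ∀ x : G, x ∈ Subgroup.centralizer ({z} : Set G) ↔ x ∈ (S : Subgroup G) := fun x =>
      mem_centralizer_singleton_iff.trans (d.cen x).symm
    have hCeq : Subgroup.centralizer ({(⟨z, hzM⟩ : M)} : Set M) = (TM : Subgroup M) := by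
      ext x
      rw [mem_centralizer_singleton_iff]
      exact Subtype.ext_iff.trans (d.cen (x : G)).symm
    obtain ⟨e⟩ : Nonempty (↥(S : Subgroup G) ≃* DihedralGroup 4) :=
      d.equiv
    let e' : ↥(Subgroup.centralizer ({(⟨z, hzM⟩ : M)} : Set M)) ≃* DihedralGroup 4 :=
      (MulEquiv.subgroupCongr hCeq).trans ((Subgroup.subgroupOfEquivOfLe hSM).trans e)
    have htop : M = ⊤ := by
      have := hfac fun x hx => CharExt.D8.isConj_involution hperf hz2 e' hx
      rwa [sup_eq_left.2 hSM] at this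
    haveI := hsimp
    haveI : Nontrivial G := ⟨z, 1, hz1⟩
    haveI : Fact (Nat.Prime 7) := ⟨by norm_num⟩
    haveI : IsSimpleGroup G :=
      IsSimpleGroup.isSimpleGroup_of_surjective (M.subtype) (fun g => ⟨⟨g, htop ▸ mem_top g⟩, rfl⟩)
    have hG : Nat.card G = Nat.card M := by rw [htop, Subgroup.card_top]
    rcases Cfsg.Agent.S0848.result hperf _ hz2 e' with h | h
    · left
      obtain ⟨f⟩ := Cfsg.Agent.S0495.result (F := ZMod 7) (hG.trans h) (ZMod.card 7)
      obtain ⟨i⟩ := Linear.psl_two_seven_iso (F := ZMod 7) (K := ZMod 2) (ZMod.card 7) (ZMod.card 2)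
      have hc : Subgroup.center (Matrix.SpecialLinearGroup (Fin 3) (ZMod 2)) = ⊥ :=
        Subgroup.eq_bot_of_card_eq _ (by
          rw [Linear.card_center_SL, Fintype.card_fin, ZMod.card]; rfl)
      exact ⟨f.trans (i.trans ((QuotientGroup.quotientMulEquivOfEq hc).trans QuotientGroup.quotientBot))⟩
    · right
      exact Cfsg.Agent.S0497.result (hG.trans h)
  · -- `S ∩ M` is a four group
    left
    haveI := hsimp
    have hCV : ∀ x : M, x * (⟨z, hzM⟩ : M) = ⟨z, hzM⟩ * x ↔ (x : G) ∈ V := fun x => by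
      rw [Subtype.ext_iff]
      constructor
      · intro h; exact hV'.le ⟨(d.cen _).2 h, x.2⟩
      · intro h; exact (d.cen _).1 (hVS h)
    obtain ⟨e5⟩ := Cfsg.Agent.S3278.result (⟨z, hzM⟩ : M) hz2
      (Subgroup.centralizer ({(⟨z, hzM⟩ : M)} : Set M)) le_rfl
      (by
        let e : ↥(Subgroup.centralizer ({(⟨z, hzM⟩ : M)} : Set M)) ≃* ↥V :=
          (MulEquiv.subgroupCongr (show _ = V.subgroupOf M by
            ext x; rw [mem_centralizer_singleton_iff]; exact hCV x)).trans
            (Subgroup.subgroupOfEquivOfLe hVM)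
        exact ⟨by rw [Nat.card_congr e.toEquiv, hVcard],
          by rw [Monoid.exponent_eq_of_mulEquiv e]; exact hVK.exponent_two⟩)
      (by rw [Subgroup.relIndex_self]; norm_num) (by rw [Subgroup.subgroupOf_self]; infer_instance)
    have hM60 : Nat.card M = 60 := by
      have h5 : 2 * Nat.card (alternatingGroup (Fin 5)) = 120 := by
        rw [two_mul_nat_card_alternatingGroup, Nat.card_perm, Nat.card_fin]; rfl
      rw [Nat.card_congr e5.toEquiv]; omega
    have hsup := hfac fun x hx => hfour hV' _ x hz2 hx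
    have hG : Nat.card G = 120 := by
      have h1 := CompFact.card_mul_mul_card_inf M (S : Subgroup G)
      rw [← Subgroup.coe_mul_of_right_le_normalizer_left M (S : Subgroup G)
        Subgroup.le_normalizer_of_normal, hsup, inf_comm, hV', hVcard, hM60, d.card] at h1
      simp only [Subgroup.coe_top, Nat.card_coe_set_eq, Set.ncard_univ] at h1
      omega
    -- the action on the five conjugates of `V`
    have hVn : ¬ M ≤ Subgroup.normalizer (V : Set G) := fun h => by
      haveI : (V.subgroupOf M).Normal := Subgroup.normal_subgroupOf_of_le_normalizer h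
      rcases hsimp.eq_bot_or_eq_top_of_normal (V.subgroupOf M) inferInstance with h1 | h1
      · exact hz1 (congrArg Subtype.val (Subgroup.mem_bot.1 (h1.le (show (⟨z, hzM⟩ : M) ∈ _ from hzV))))
      · have := Subgroup.card_le_of_le (Subgroup.subgroupOf_eq_top.1 h1)
        omega
    set N := Subgroup.normalizer (V : Set G)
    have hidx : N.index = 5 := by
      have h8 : 8 ∣ Nat.card N := d.card ▸ Subgroup.card_dvd_of_le (fun s hs =>
        Subgroup.mem_normalizer_iff.2 fun v => ?_)
      swap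
      · have hfix : ∀ s ∈ (S : Subgroup G), ∀ v ∈ V, s * v * s⁻¹ ∈ V := fun s hs v hv =>
          hV'.le ⟨(S : Subgroup G).mul_mem ((S : Subgroup G).mul_mem hs (hVS hv)) ((S : Subgroup G).inv_mem hs), hMn.conj_mem v (hVM hv) s⟩
        refine ⟨hfix s hs v, fun hv => ?_⟩
        simpa [mul_assoc] using hfix _ ((S : Subgroup G).inv_mem hs) _ hv
      have hmT : ∀ x : M, x ∈ (TM : Subgroup M) ↔ (x : G) ∈ V := fun x =>
        ⟨fun h => hV'.le ⟨h, x.2⟩, fun h => hVS h⟩
      have hsqV : ∀ v ∈ V, v * v = 1 := by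
        intro v hv
        by_cases h : v = 1
        · rw [h, one_mul]
        obtain ⟨g, hg⟩ := hVconj v hv h
        rw [← hg]
        calc g * z * g⁻¹ * (g * z * g⁻¹) = g * (z * z) * g⁻¹ := by group
          _ = 1 := by rw [mul_self_z d]; group
      have hTab : IsMulCommutative (TM : Subgroup M) := by
        have hs : ∀ x : (TM : Subgroup M), x⁻¹ = x := fun x =>
          inv_eq_of_mul_eq_one_left (Subtype.ext (Subtype.ext (hsqV _ ((hmT _).1 x.2))))
        exact ⟨⟨fun x y => by rw [← hs (x * y), mul_inv_rev, hs, hs]⟩⟩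
      have hnorm : ∀ n ∈ Subgroup.normalizer ((TM : Subgroup M) : Set M), (n : G) ∈ N := by
        intro n hn
        refine Subgroup.mem_normalizer_iff.2 fun v => ⟨fun hv => ?_, fun hv => ?_⟩
        · exact (hmT _).1 ((Subgroup.mem_normalizer_iff.1 hn ⟨v, hVM hv⟩).1 ((hmT _).2 hv))
        · have h1 : v ∈ M := by
            have := hMn.conj_mem _ (hVM hv) (n : G)⁻¹
            simpa [mul_assoc] using this
          exact (hmT ⟨v, h1⟩).1 ((Subgroup.mem_normalizer_iff.1 hn ⟨v, h1⟩).2 ((hmT _).2 hv))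
      have h3 : 3 ∣ Nat.card N := by
        set N' := N.map (ConjAct.toConjAct : G ≃* ConjAct G).toMonoidHom with hN'
        have horb : MulAction.orbit N' z = (V : Set G) \ {1} := by
          ext v
          constructor
          · rintro ⟨⟨_, n, hn, rfl⟩, rfl⟩
            change ConjAct.toConjAct n • z ∈ (V : Set G) \ {1}
            rw [ConjAct.toConjAct_smul]
            exact ⟨(Subgroup.mem_normalizer_iff.1 hn z).1 hzV, fun h => hz1 (by
              calc z = n⁻¹ * (n * z * n⁻¹) * n := by group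
                _ = 1 := by rw [Set.mem_singleton_iff.1 h]; group)⟩
          · rintro ⟨hv, hv1⟩
            have ho : orderOf (⟨v, hVM hv⟩ : M) = 2 := orderOf_eq_prime
              (Subtype.ext (by show v ^ 2 = 1; rw [pow_two]; exact hsqV v hv))
              (fun h => hv1 (congrArg Subtype.val h))
            obtain ⟨m, hm⟩ := isConj_iff.1 (hfour hV' ⟨z, hzM⟩ ⟨v, hVM hv⟩ hz2 ho)
            haveI := hTab
            obtain ⟨n, hn, hn'⟩ := TM.conj_eq_normalizer_conj_of_mem ⟨z, hzM⟩ m⁻¹ ((hmT _).2 hzV)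
              (by rw [inv_inv, hm]; exact (hmT _).2 hv)
            rw [inv_inv, hm] at hn'
            refine ⟨⟨_, (n : G)⁻¹, inv_mem (hnorm n hn), rfl⟩, ?_⟩
            change ConjAct.toConjAct (n : G)⁻¹ • z = v
            rw [ConjAct.toConjAct_smul, inv_inv]
            exact (congrArg Subtype.val hn').symm
        have h1 := Subgroup.index_dvd_card (MulAction.stabilizer N' z)
        rw [MulAction.index_stabilizer, horb, Set.ncard_sdiff_singleton_of_mem V.one_mem,
          ← Nat.card_coe_set_eq] at h1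
        rw [show Nat.card (V : Set G) = 4 from hVcard, hN',
          Subgroup.card_map_of_injective (ConjAct.toConjAct (G := G)).injective] at h1
        exact h1
      have h24 : 24 ∣ Nat.card N := Nat.Coprime.mul_dvd_of_dvd_of_dvd (by norm_num : Nat.Coprime 8 3) h8 h3
      have h5 := N.card_mul_index
      rw [hG] at h5
      obtain ⟨k, hk⟩ := h24
      rw [hk] at h5
      have h6 : k * N.index = 5 := by linarith
      rcases (Nat.dvd_prime (by norm_num : Nat.Prime 5)).1 (Dvd.intro_left k h6) with h | h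
      · exact absurd (Subgroup.index_eq_one.1 h ▸ le_top) hVn
      · exact h
    let ψ : G →* Equiv.Perm (G ⧸ Subgroup.normalizer (V : Set G)) := MulAction.toPermHom G _
    have hψ : ψ.ker = ⊥ := by
      by_contra h
      refine hVn ((hMmin _ ψ.normal_ker h).trans ?_)
      have : ψ.ker = (Subgroup.normalizer (V : Set G)).normalCore :=
        (Subgroup.normalCore_eq_ker _).symm
      rw [this]; exact Subgroup.normalCore_le _
    have hb : Function.Bijective ψ := ((MonoidHom.ker_eq_bot_iff ψ).1 hψ).bijective_of_nat_card_le (by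
      rw [Nat.card_perm, ← Subgroup.index_eq_card, hidx, hG]; rfl)
    exact ⟨(MulEquiv.ofBijective ψ hb).trans
      ((Finite.equivFinOfCardEq (by rw [← Subgroup.index_eq_card, hidx])).permCongrHom)⟩

end

theorem classify {G : Type*} [Group G] [Finite G] (z : G) (hz : orderOf z = 2)
    (e : ↥(Subgroup.centralizer ({z} : Set G)) ≃* DihedralGroup 4) :
    Subgroup.centralizer ({z} : Set G) ⊔ Cfsg.oddCore G = ⊤ ∨ Nonempty (G ≃* Equiv.Perm (Fin 4)) ∨
      Nonempty (G ≃* Equiv.Perm (Fin 5)) ∨
      Nonempty (G ≃* Matrix.SpecialLinearGroup (Fin 3) (ZMod 2)) ∨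
      Nonempty (G ≃* ↥(alternatingGroup (Fin 6))) := by
  obtain ⟨S, d⟩ := exists_data z hz e
  by_cases hiso : ∀ g : G, g * z * g⁻¹ ∈ S → g * z * g⁻¹ = z
  · exact Or.inl (isolated_case d hiso)
  push Not at hiso
  obtain ⟨g₀, hg, hne⟩ := hiso
  right
  by_cases hQ : Cfsg.pCore 2 G = ⊥
  · exact Or.inr (simple_case d g₀ rfl hg hne hQ)
  · exact Or.inl (pCore_case d g₀ rfl hg hne hQ)

end Cfsg.Agent.LocEven.D8Cent
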