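import Cfsg.Agent.EvenLocal.LocalFactor
import Cfsg.Agent.EvenLocal.Involved
import Cfsg.Agent.LocalP.QdStable
import Cfsg.Agent.CharTwo.Locals
import Cfsg.Agent.PSolv.HallHigman

/-!
In a `Qd(p)`-free group a ZJ functor of a strongly closed subgroup controls fusion, with no
hypothesis of constraint on the local subgroups.
-/

set_option autoImplicit false
set_option linter.style.haveILetI false

namespace Cfsg.Agent.LocEven.QdControl

open Subgroup
open Cfsg.Agent.Fusion
open Cfsg.Agent.EvenLocal (ActsLike exists_fusion_in_factor local_factor zjStable_quotient)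
open scoped commutatorElement

universe u

variable {p : ℕ} [Fact p.Prime]

/-- `N(W D)` controls fusion, for every Sylow subgroup and every strongly closed `D`. -/
def Controls (F : H4.PFunctor'.{u} p) (G : Type u) [Group G] : Prop :=
  ∀ (P : Sylow p G) (D : Subgroup G), Cfsg.IsStronglyClosed D (P : Subgroup G) →
    ∀ A : Subgroup G, A ≤ (P : Subgroup G) → ∀ g : G, cj g A ≤ (P : Subgroup G) →
      ActsLike (normalizer (F.W D : Set G)) A g

variable {G : Type u} [Group G] [Finite G] {F : H4.PFunctor'.{u} p}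

/-- Control inside a subgroup, seen in the ambient group. -/
theorem controls_in_subgroup (L : Subgroup G) (hL : Controls F ↥L) (P : Sylow p G) (D : Subgroup G)
    (hD : Cfsg.IsStronglyClosed D (P : Subgroup G))
    (hsyl : ¬ p ∣ ((P : Subgroup G) ⊓ L).relIndex L) {H : Subgroup G}
    (hH : H ≤ (P : Subgroup G) ⊓ L) {y : G} (hy : y ∈ L) (hyH : cj y H ≤ (P : Subgroup G) ⊓ L) :
    ActsLike (L ⊓ normalizer (F.W (D ⊓ ((P : Subgroup G) ⊓ L)) : Set G)) H y := by
  let T : Sylow p ↥L := ((P.2.to_inf_left (K := L)).comap_subtype (K := L)).toSylow hsyl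
  have hsc : Cfsg.IsStronglyClosed (D.subgroupOf L) (T : Subgroup ↥L) := by
    have h := Fusion.sc_subgroupOf hD L
    rwa [← Subgroup.inf_subgroupOf_right (P : Subgroup G) L] at h
  have hHT : H.subgroupOf L ≤ (T : Subgroup ↥L) := comap_mono hH
  have hcj : cj (⟨y, hy⟩ : ↥L) (H.subgroupOf L) ≤ (T : Subgroup ↥L) := by
    rintro - ⟨a, ha, rfl⟩
    exact hyH ⟨(a : G), ha, rfl⟩
  obtain ⟨m, hm, hma⟩ := hL T _ hsc _ hHT ⟨y, hy⟩ hcj
  refine ⟨(m : G), ⟨m.2, ?_⟩, fun a ha => ?_⟩
  · have hker : D.subgroupOf L ⊓ L.subtype.ker = ⊥ := by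
      rw [Subgroup.ker_subtype, inf_bot_eq]
    have hmap : (D.subgroupOf L).map L.subtype = D ⊓ ((P : Subgroup G) ⊓ L) := by
      rw [Subgroup.subgroupOf_map_subtype, ← inf_assoc, inf_eq_left.2 hD.1]
    have h := le_normalizer_map (H := F.W (D.subgroupOf L)) L.subtype ⟨m, hm, rfl⟩
    rw [F.W_map _ _ hker, hmap] at h
    exact h
  · exact congrArg Subtype.val (hma ⟨a, (hH ha).2⟩ ha)

/-- Control inside a subgroup containing the Sylow subgroup. -/
theorem controls_in_over (L : Subgroup G) (hL : Controls F ↥L) (P : Sylow p G) (D : Subgroup G)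
    (hD : Cfsg.IsStronglyClosed D (P : Subgroup G)) (hPL : (P : Subgroup G) ≤ L) {H : Subgroup G}
    (hH : H ≤ (P : Subgroup G)) {y : G} (hy : y ∈ L) (hyH : cj y H ≤ (P : Subgroup G)) :
    ActsLike (normalizer (F.W D : Set G)) H y := by
  have e : (P : Subgroup G) ⊓ L = P := inf_eq_left.2 hPL
  obtain ⟨m, hm, hma⟩ := controls_in_subgroup L hL P D hD
    (by rw [e]; exact fun h => Sylow.not_dvd_index P (h.trans (relIndex_dvd_index_of_le hPL)))
    (hH.trans e.ge) hy (hyH.trans e.ge)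
  refine ⟨m, ?_, hma⟩
  have := hm.2
  rwa [e, inf_eq_left.2 hD.1] at this

/-- Control of fusion follows from control inside normalizers along Alperin chains. -/
theorem controls_of_steps (P : Sylow p G) (M : Subgroup G)
    (hNP : normalizer ((P : Subgroup G) : Set G) ≤ M)
    (hstep : ∀ H : Subgroup G, H ≤ (P : Subgroup G) → H ≠ P → Cfsg.pCore p G ≤ H →
      ¬ p ∣ ((P : Subgroup G) ⊓ normalizer (H : Set G)).relIndex (normalizer (H : Set G)) →
      (∀ B : Subgroup G, B ≤ (P : Subgroup G) → Nat.card H < Nat.card B →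
        ∀ x : G, cj x B ≤ (P : Subgroup G) → ActsLike M B x) →
      ∀ x ∈ normalizer (H : Set G), ActsLike M H x) :
    ∀ A : Subgroup G, A ≤ (P : Subgroup G) → ∀ g : G, cj g A ≤ (P : Subgroup G) →
      ActsLike M A g := by
  suffices key : ∀ (n : ℕ) (A : Subgroup G), A ≤ (P : Subgroup G) →
      Nat.card (P : Subgroup G) ≤ Nat.card A + n → ∀ g : G, cj g A ≤ (P : Subgroup G) →
      ActsLike M A g from fun A hA g hg => key _ A hA le_add_self g hg
  intro n
  induction n using Nat.strong_induction_on with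
  | _ n ih =>
  intro A hA hn g hg
  have hbig : ∀ B : Subgroup G, B ≤ (P : Subgroup G) → Nat.card A < Nat.card B →
      ∀ x : G, cj x B ≤ (P : Subgroup G) → ActsLike M B x := by
    intro B hB hlt x hx
    refine ih (Nat.card (P : Subgroup G) - Nat.card B) ?_ B hB (by omega) x hx
    have := card_le_of_le hB
    omega
  have hone : ∀ (H : Subgroup G), H ≤ (P : Subgroup G) → Nat.card A ≤ Nat.card H →
      Cfsg.pCore p G ≤ H →
      ¬ p ∣ ((P : Subgroup G) ⊓ normalizer (H : Set G)).relIndex (normalizer (H : Set G)) →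
      ∀ x ∈ normalizer (H : Set G), ActsLike M H x := by
    intro H hHP hAH hQH hsyl x hx
    by_cases hHeq : H = (P : Subgroup G)
    · exact ⟨x, hNP (hHeq ▸ hx), fun a _ => rfl⟩
    · exact hstep H hHP hHeq hQH hsyl
        (fun B hB hlt => hbig B hB (lt_of_le_of_lt hAH hlt)) x hx
  have hchain : ∀ {B : Subgroup G} {z : G}, FusionChain P B z → Nat.card A ≤ Nat.card B →
      ActsLike M B z⁻¹ := by
    intro B z hz
    induction hz with
    | one B => exact fun _ => ⟨1, one_mem _, fun a _ => by simp⟩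
    | @step B R x y htame hx _ hB hrest ihr =>
      intro hAB
      obtain ⟨m₁, hm₁, h₁⟩ := hone ((P : Subgroup G) ⊓ R) inf_le_left
        (hAB.trans (card_le_of_le hB))
        (le_inf (Cores.pCore_le_sylow P) (Cores.pCore_le_sylow R)) htame.1 x⁻¹ (inv_mem hx)
      obtain ⟨m₂, hm₂, h₂⟩ := ihr (hAB.trans (card_cj x⁻¹ B).ge)
      refine ⟨m₂ * m₁, mul_mem hm₂ hm₁, fun a ha => ?_⟩
      calc (x * y)⁻¹ * a * ((x * y)⁻¹)⁻¹ = y⁻¹ * (x⁻¹ * a * x⁻¹⁻¹) * y⁻¹⁻¹ := by group
        _ = m₂ * (x⁻¹ * a * x⁻¹⁻¹) * m₂⁻¹ := h₂ _ ⟨a, ha, by simp⟩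
        _ = m₂ * (m₁ * a * m₁⁻¹) * m₂⁻¹ := by rw [h₁ a (hB ha)]
        _ = _ := by group
  have h := hchain (exists_chain P hA (g := g⁻¹) (by rwa [inv_inv])) le_rfl
  rwa [inv_inv] at h

/-- The case `O_p(G) = 1`: every local subgroup is proper. -/
theorem controls_of_pCore_eq_bot (hQ : Cfsg.pCore p G = ⊥)
    (IH : ∀ L : Subgroup G, L ≠ ⊤ → Controls F ↥L) : Controls F G := by
  intro P D hD
  have hPD : (P : Subgroup G) ≤ normalizer (D : Set G) := le_normalizer_iff.2 fun g hg x hx =>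
    hD.2 x hx g (mul_mem (mul_mem hg (hD.1 hx)) (inv_mem hg))
  set Mn := normalizer (F.W D : Set G) with hMn
  have hNP : normalizer ((P : Subgroup G) : Set G) ≤ Mn :=
    (le_normalizer_iff.2 fun g hg x hx =>
      hD.2 x hx g ((mem_normalizer_iff.1 hg x).1 (hD.1 hx))).trans (F.normalizer_le D)
  by_cases hDbot : D = ⊥
  · intro A _ g _
    have hWb : F.W D = ⊥ := le_bot_iff.1 ((F.W_le D).trans hDbot.le)
    refine ⟨g, ?_, fun a _ => rfl⟩
    rw [hMn, hWb, normalizer_eq_top]
    trivial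
  set Z := (P : Subgroup G) ⊓ centralizer ((P : Subgroup G) : Set G) with hZ
  have hDZ : D ⊓ Z ≠ ⊥ := by
    have h := Modules.inf_centralizer_ne_bot_of_isPGroup (V := D) (A := (P : Subgroup G))
      (P.2.to_le hD.1) hDbot hPD fun a ha => by
        obtain ⟨k, hk⟩ := P.2 ⟨a, ha⟩
        exact ⟨k, by rw [show a ^ p ^ k = 1 from congrArg Subtype.val hk]; exact one_mem _⟩
    refine fun hb => h (le_bot_iff.1 (le_trans ?_ hb.le))
    exact fun x hx => ⟨hx.1, hD.1 hx.1, hx.2⟩
  have hproper : ∀ X : Subgroup G, X ≤ (P : Subgroup G) → X ≠ ⊥ →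
      normalizer (X : Set G) ≠ ⊤ := by
    intro X hXP hX h
    haveI : X.Normal := normalizer_eq_top_iff.1 h
    exact hX (le_bot_iff.1 (hQ ▸ Cores.le_pCore (p := p) inferInstance (P.2.to_le hXP)))
  refine controls_of_steps P Mn hNP fun H₀ hH₀P hH₀ne _ hsyl₀ hbig x₀ hx₀ => ?_
  rcases eq_or_ne H₀ ⊥ with hb | hb
  · refine ⟨1, one_mem _, fun a ha => ?_⟩
    rw [hb, mem_bot] at ha
    simp [ha]
  have hlocal : ∀ (j : ℕ) (X : Subgroup G), X ≤ (P : Subgroup G) → X ≠ ⊥ →
      ¬ p ∣ ((P : Subgroup G) ⊓ normalizer (X : Set G)).relIndex (normalizer (X : Set G)) →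
      Nat.card H₀ < Nat.card ↥((P : Subgroup G) ⊓ normalizer (X : Set G)) →
      Nat.card (P : Subgroup G) ≤ Nat.card ↥((P : Subgroup G) ⊓ normalizer (X : Set G)) + j →
      ∀ H : Subgroup G, H ≤ (P : Subgroup G) ⊓ normalizer (X : Set G) →
        ∀ y ∈ normalizer (X : Set G),
        cj y H ≤ (P : Subgroup G) ⊓ normalizer (X : Set G) → ActsLike Mn H y := by
    intro j
    induction j using Nat.strong_induction_on with
    | _ j jh =>
    intro X hXP hX hsyl hAT hj H hH y hy hyH
    obtain ⟨l, hl, hly⟩ := controls_in_subgroup _ (IH _ (hproper X hXP hX)) P D hD hsyl hH hy hyH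
    set T := (P : Subgroup G) ⊓ normalizer (X : Set G) with hT
    have hTP : T ≤ (P : Subgroup G) := inf_le_left
    have hZT : Z ≤ T := le_inf inf_le_left fun z hz =>
      centralizer_le_normalizer _ (centralizer_le hXP hz.2)
    set W' := F.W (D ⊓ T) with hW'
    have hTW : T ≤ normalizer (W' : Set G) :=
      (Modules.normalizes_inf (hTP.trans hPD) le_normalizer).trans (F.normalizer_le _)
    by_cases hTeq : T = (P : Subgroup G)
    · refine ⟨l, ?_, hly⟩
      have e : D ⊓ T = D := by rw [hTeq, inf_eq_left]; exact hD.1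
      have := hl.2
      rwa [hW', e] at this
    have hW'ne : W' ≠ ⊥ := F.W_ne_bot _ ((P.2.to_le hTP).to_le inf_le_right) fun hb =>
      hDZ (le_bot_iff.1 (le_trans (inf_le_inf_left D hZT) hb.le))
    have hW'P : W' ≤ (P : Subgroup G) := (F.W_le _).trans (inf_le_right.trans hTP)
    set S₁ := (P : Subgroup G) ⊓ normalizer (W' : Set G) with hS₁
    have hlt : Nat.card T < Nat.card S₁ := by
      have h1 := lt_normalizer_inf P.2 (lt_of_le_of_ne hTP hTeq)
      have h2 : (P : Subgroup G) ⊓ normalizer (T : Set G) ≤ S₁ := le_inf inf_le_left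
        ((Modules.normalizes_inf (inf_le_left.trans hPD) inf_le_right).trans (F.normalizer_le _))
      exact lt_of_lt_of_le (Set.ncard_lt_ncard h1 (Set.toFinite _)) (card_le_of_le h2)
    obtain ⟨R, hR, hRsyl⟩ := exists_sylow_inf_relIndex (U := S₁) (N := normalizer (W' : Set G))
      (P.2.to_le inf_le_left) inf_le_right
    obtain ⟨x, hx⟩ := exists_cj_sylow R P
    have hxS : cj x S₁ ≤ (P : Subgroup G) := (cj_mono x hR).trans hx.le
    obtain ⟨m, hm, hmx⟩ := hbig S₁ inf_le_left (by omega) x hxS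
    have hW'S : W' ≤ S₁ := le_inf hW'P le_normalizer
    have hcjle : ∀ B : Subgroup G, B ≤ S₁ → cj m B = cj x B := by
      intro B hB
      ext z
      constructor
      · rintro ⟨b, hb, rfl⟩; exact ⟨b, hb, hmx b (hB hb)⟩
      · rintro ⟨b, hb, rfl⟩; exact ⟨b, hb, (hmx b (hB hb)).symm⟩
    have hX'' : cj m W' = cj x W' := hcjle W' hW'S
    have hTS : T ≤ S₁ := le_inf hTP hTW
    have hsyl' : ¬ p ∣ ((P : Subgroup G) ⊓ normalizer (cj m W' : Set G)).relIndex
        (normalizer (cj m W' : Set G)) := by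
      rw [hX'', ← cj_normalizer, ← hx, ← cj_inf,
        relIndex_map_map_of_injective _ _ (MulAut.conj x).injective]
      exact hRsyl
    have hbigS : Nat.card S₁ ≤ Nat.card ↥((P : Subgroup G) ⊓ normalizer (cj m W' : Set G)) := by
      rw [← card_cj m S₁]
      refine card_le_of_le (le_inf ((hcjle S₁ le_rfl).le.trans hxS) ?_)
      rw [← cj_normalizer]
      exact cj_mono m inf_le_right
    have hl2 : l ∈ normalizer (W' : Set G) := hl.2
    have hle'' := card_le_of_le
      (inf_le_left : (P : Subgroup G) ⊓ normalizer (cj m W' : Set G) ≤ (P : Subgroup G))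
    have hlast : cj (m * l * m⁻¹) (cj m H) ≤
        (P : Subgroup G) ⊓ normalizer (cj m W' : Set G) := by
      have he : cj (m * l * m⁻¹) (cj m H) = cj m (cj y H) := by
        rw [cj_cj, cj_cj, inv_mul_cancel_right]
        ext z
        constructor
        · rintro ⟨b, hb, rfl⟩
          refine ⟨b, hb, ?_⟩
          show m * y * b * (m * y)⁻¹ = m * l * b * (m * l)⁻¹
          calc m * y * b * (m * y)⁻¹ = m * (y * b * y⁻¹) * m⁻¹ := by group
            _ = m * (l * b * l⁻¹) * m⁻¹ := by rw [hly b hb]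
            _ = _ := by group
        · rintro ⟨b, hb, rfl⟩
          refine ⟨b, hb, ?_⟩
          show m * l * b * (m * l)⁻¹ = m * y * b * (m * y)⁻¹
          calc m * l * b * (m * l)⁻¹ = m * (l * b * l⁻¹) * m⁻¹ := by group
            _ = m * (y * b * y⁻¹) * m⁻¹ := by rw [hly b hb]
            _ = _ := by group
      rw [he]
      refine le_inf ((cj_mono m (hyH.trans hTS)).trans ((hcjle S₁ le_rfl).le.trans hxS)) ?_
      rw [← cj_normalizer]
      exact cj_mono m (hyH.trans hTW)
    obtain ⟨m₂, hm₂, hm₂y⟩ := jh (Nat.card (P : Subgroup G) -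
        Nat.card ↥((P : Subgroup G) ⊓ normalizer (cj m W' : Set G))) (by omega) (cj m W')
      (hX''.le.trans ((cj_mono x hW'S).trans hxS))
      (fun hb => hW'ne ((map_eq_bot_iff_of_injective _ (MulAut.conj m).injective).1 hb))
      hsyl' (by omega) (by omega) (cj m H)
      (le_inf ((cj_mono m (hH.trans hTS)).trans ((hcjle S₁ le_rfl).le.trans hxS))
        (by rw [← cj_normalizer]; exact cj_mono m (hH.trans hTW)))
      (m * l * m⁻¹) (by rw [← cj_normalizer]; exact ⟨l, hl2, rfl⟩) hlast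
    refine ⟨m⁻¹ * m₂ * m, mul_mem (mul_mem (inv_mem hm) hm₂) hm, fun a ha => ?_⟩
    have := hm₂y (m * a * m⁻¹) ⟨a, ha, rfl⟩
    calc y * a * y⁻¹ = l * a * l⁻¹ := hly a ha
      _ = m⁻¹ * (m * l * m⁻¹ * (m * a * m⁻¹) * (m * l * m⁻¹)⁻¹) * m := by group
      _ = m⁻¹ * (m₂ * (m * a * m⁻¹) * m₂⁻¹) * m := by rw [this]
      _ = m⁻¹ * m₂ * m * a * (m⁻¹ * m₂ * m)⁻¹ := by group
  have hlt' := lt_normalizer_inf P.2 (lt_of_le_of_ne hH₀P hH₀ne)
  exact hlocal _ H₀ hH₀P hb hsyl₀ (Set.ncard_lt_ncard hlt' (Set.toFinite _)) le_add_self H₀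
    (le_inf hH₀P le_normalizer) x₀ hx₀
    ((cj_eq_of_mem hx₀).le.trans (le_inf hH₀P le_normalizer))

/-- The case `C(Q) P < G` for `Q = O_p(G) ≠ 1` and `P ∩ C(Q) Q > Q`. -/
theorem controls_of_split (P : Sylow p G) (D : Subgroup G)
    (hD : Cfsg.IsStronglyClosed D (P : Subgroup G)) (K : Subgroup G) [K.Normal]
    (hKP : K ⊔ (P : Subgroup G) ≠ ⊤)
    (hR : normalizer ((((P : Subgroup G) ⊓ K) : Subgroup G) : Set G) ≠ ⊤)
    (IH : ∀ L : Subgroup G, L ≠ ⊤ → Controls F ↥L) :
    ∀ A : Subgroup G, A ≤ (P : Subgroup G) → ∀ g : G, cj g A ≤ (P : Subgroup G) →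
      ActsLike (normalizer (F.W D : Set G)) A g := by
  have hNP : normalizer ((P : Subgroup G) : Set G) ≤ normalizer (F.W D : Set G) :=
    (le_normalizer_iff.2 fun g hg x hx =>
      hD.2 x hx g ((mem_normalizer_iff.1 hg x).1 (hD.1 hx))).trans (F.normalizer_le D)
  refine controls_of_steps P _ hNP fun H hHP _ _ hsyl hbig x hx => ?_
  set N := normalizer (H : Set G) with hN
  set T := (P : Subgroup G) ⊓ N with hT
  set U := T ⊓ K with hU
  set R := (P : Subgroup G) ⊓ K with hRdef
  have hPR : (P : Subgroup G) ≤ normalizer (R : Set G) :=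
    Modules.normalizes_inf le_normalizer (by rw [normalizer_eq_top (H := K)]; exact le_top)
  have hxH : cj x H = H := cj_eq_of_mem hx
  by_cases hUH : U ≤ H
  · have hRH : R ≤ H := by
      by_contra hnot
      set J := H ⊔ R with hJ
      have hJP : J ≤ (P : Subgroup G) := sup_le hHP inf_le_left
      have hlt := lt_normalizer_inf (P.2.to_le hJP) (left_lt_sup.2 hnot)
      refine not_le_of_gt hlt fun z hz => ?_
      have hzJ : z ∈ H ⊔ R := hz.1
      rw [← SetLike.mem_coe, coe_mul_of_left_le_normalizer_right H R (hHP.trans hPR)] at hzJ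
      obtain ⟨h, hh, r, hr, rfl⟩ := hzJ
      have hrN : r ∈ N := by
        have := mul_mem (inv_mem (le_normalizer hh)) hz.2
        simpa [hN] using this
      exact mul_mem hh (hUH ⟨⟨hr.1, hrN⟩, hr.2⟩)
    have hHK : H ⊓ K = R :=
      le_antisymm (inf_le_inf_right K hHP) (le_inf hRH inf_le_right)
    refine controls_in_over _ (IH _ hR) P D hD hPR hHP ?_ (hxH.le.trans hHP)
    rw [← hHK]
    exact Modules.normalizes_inf (A := N) le_rfl (by rw [normalizer_eq_top (H := K)]; exact le_top) hx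
  · have hUN : U ≤ N ⊓ K := inf_le_inf_right K inf_le_right
    have hUsyl : ¬ p ∣ U.relIndex (N ⊓ K) := by
      have e : U = T ⊓ (N ⊓ K) := by rw [hU, ← inf_assoc, inf_eq_left.2 (inf_le_right : T ≤ N)]
      haveI : ((N ⊓ K).subgroupOf N).Normal := normal_subgroupOf_of_le_normalizer
        (Modules.normalizes_inf le_normalizer (by rw [normalizer_eq_top (H := K)]; exact le_top))
      intro hd
      rw [e, inf_relIndex_right] at hd
      refine hsyl (hd.trans ?_)
      have h1 := PSolv.relIndex_dvd_index_of_normal_right (T.subgroupOf N) ((N ⊓ K).subgroupOf N)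
      rwa [relIndex_subgroupOf inf_le_left] at h1
    have hcjNK : cj x (N ⊓ K) = N ⊓ K := cj_eq_of_mem
      (Modules.normalizes_inf (A := N) le_normalizer
        (by rw [normalizer_eq_top (H := K)]; exact le_top) hx)
    obtain ⟨c, hc, hcU⟩ := exists_conj_of_relIndex
      (isPGroup_cj (P.2.to_le (inf_le_left.trans inf_le_left) : IsPGroup p U) x)
      (P.2.to_le (inf_le_left.trans inf_le_left) : IsPGroup p U)
      ((cj_mono x hUN).trans hcjNK.le) hUN (by
        conv => enter [1, 2, 2]; rw [← hcjNK]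
        rw [relIndex_map_map_of_injective _ _ (MulAut.conj x).injective]
        exact hUsyl) hUsyl
    set n := c * x with hn
    have hnH : cj n H = H := cj_eq_of_mem (mul_mem hc.1 hx)
    have hnU : cj n U = U := by rw [hn, ← cj_cj, hcU]
    have hUP : U ≤ (P : Subgroup G) := inf_le_left.trans inf_le_left
    have hnJ : cj n (H ⊔ U) = H ⊔ U := by
      show (H ⊔ U).map _ = H ⊔ U
      rw [Subgroup.map_sup]
      show cj n H ⊔ cj n U = _
      rw [hnH, hnU]
    obtain ⟨m₁, hm₁, h₁⟩ := hbig (H ⊔ U) (sup_le hHP hUP)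
      (Set.ncard_lt_ncard (left_lt_sup.2 hUH) (Set.toFinite _)) n
      (hnJ.le.trans (sup_le hHP hUP))
    obtain ⟨m₂, hm₂, h₂⟩ := controls_in_over _ (IH _ hKP) P D hD le_sup_right hHP
      (y := c⁻¹) (inv_mem (mem_sup_left hc.2))
      ((cj_eq_of_mem (inv_mem hc.1)).le.trans hHP)
    refine ⟨m₂ * m₁, mul_mem hm₂ hm₁, fun a ha => ?_⟩
    calc x * a * x⁻¹ = c⁻¹ * (n * a * n⁻¹) * c⁻¹⁻¹ := by rw [hn]; group
      _ = m₂ * (n * a * n⁻¹) * m₂⁻¹ := h₂ _ (hnH.le ⟨a, ha, rfl⟩)
      _ = m₂ * (m₁ * a * m₁⁻¹) * m₂⁻¹ := by rw [h₁ a (mem_sup_left ha)]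
      _ = _ := by group

/-- The case `G = C(Q) P` for `Q = O_p(G)`: lift from `G / Q`. -/
theorem controls_of_top (P : Sylow p G) (D : Subgroup G)
    (hD : Cfsg.IsStronglyClosed D (P : Subgroup G))
    (hCP : centralizer (Cfsg.pCore p G : Set G) ⊔ (P : Subgroup G) = ⊤)
    (hQuot : Controls F (G ⧸ Cfsg.pCore p G))
    (IH : ∀ L : Subgroup G, L ≠ ⊤ → Controls F ↥L) :
    ∀ A : Subgroup G, A ≤ (P : Subgroup G) → ∀ g : G, cj g A ≤ (P : Subgroup G) →
      ActsLike (normalizer (F.W D : Set G)) A g := by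
  set Q := Cfsg.pCore p G with hQdef
  have hQp : IsPGroup p Q := Cores.pCore_isPGroup
  have hPD : (P : Subgroup G) ≤ normalizer (D : Set G) := le_normalizer_iff.2 fun g hg x hx =>
    hD.2 x hx g (mul_mem (mul_mem hg (hD.1 hx)) (inv_mem hg))
  have hNP : normalizer ((P : Subgroup G) : Set G) ≤ normalizer (F.W D : Set G) :=
    (le_normalizer_iff.2 fun g hg x hx =>
      hD.2 x hx g ((mem_normalizer_iff.1 hg x).1 (hD.1 hx))).trans (F.normalizer_le D)
  by_cases hDQ : D ≤ Q
  · intro A _ g _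
    refine ⟨g, F.normalizer_le D ?_, fun a _ => rfl⟩
    have : D.Normal := ⟨fun x hx y => hD.2 x hx y
      (Cores.pCore_le_sylow P ((inferInstance : Q.Normal).conj_mem x (hDQ hx) y))⟩
    rw [normalizer_eq_top (H := D)]
    trivial
  set π := QuotientGroup.mk' Q with hπ
  have hsurj : Function.Surjective π := QuotientGroup.mk'_surjective Q
  set Pb := P.mapSurjective hsurj with hPb
  have hPbc : (Pb : Subgroup (G ⧸ Q)) = (P : Subgroup G).map π := Sylow.coe_mapSurjective hsurj P
  have hsc : Cfsg.IsStronglyClosed (D.map π) (Pb : Subgroup (G ⧸ Q)) := by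
    rw [hPbc]; exact Fusion.sc_map hD π hsurj
  set M := (normalizer (F.W (D.map π) : Set (G ⧸ Q))).comap π with hM
  have hPM : (P : Subgroup G) ≤ M := map_le_iff_le_comap.1
    (((map_mono hPD).trans (le_normalizer_map π)).trans (F.normalizer_le _))
  have hMne : M ≠ ⊤ := by
    intro h
    have htop : normalizer (F.W (D.map π) : Set (G ⧸ Q)) = ⊤ := by
      refine eq_top_iff.2 fun q _ => ?_
      obtain ⟨g, rfl⟩ := hsurj q
      exact (h.symm ▸ mem_top g : g ∈ M)
    haveI := normalizer_eq_top_iff.1 htop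
    have hWp : IsPGroup p (F.W (D.map π)) := ((P.2.to_le hD.1).map π).to_le (F.W_le _)
    have hle : (F.W (D.map π)).comap π ≤ Q := Cores.le_pCore inferInstance
      (hWp.comap_of_ker_isPGroup π (by rw [hπ, QuotientGroup.ker_mk']; exact hQp))
    refine F.W_ne_bot (D.map π) ((P.2.to_le hD.1).map π) (fun hb => hDQ ?_)
      (le_bot_iff.1 fun w hw => ?_)
    · intro d hd
      have : π d ∈ (⊥ : Subgroup (G ⧸ Q)) := hb ▸ mem_map_of_mem π hd
      exact (QuotientGroup.eq_one_iff d).1 (mem_bot.1 this)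
    · obtain ⟨g, rfl⟩ := hsurj w
      exact mem_bot.2 ((QuotientGroup.eq_one_iff g).2 (hle hw))
  refine controls_of_steps P _ hNP fun H hHP _ hQH hsyl _ x hx => ?_
  set N := normalizer (H : Set G) with hN
  have hxH : cj x H = H := cj_eq_of_mem hx
  obtain ⟨mb, hmb, hact⟩ := hQuot Pb (D.map π) hsc (H.map π) (by rw [hPbc]; exact map_mono hHP)
    (π x) (by
      rw [hPbc]
      rintro - ⟨-, ⟨a, ha, rfl⟩, rfl⟩
      exact ⟨x * a * x⁻¹, hHP (hxH.le ⟨a, ha, rfl⟩), by simp⟩)
  obtain ⟨m, rfl⟩ := hsurj mb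
  set c := m⁻¹ * x with hc
  set S := N ⊓ (centralizer ((H.map π : Subgroup (G ⧸ Q)) : Set (G ⧸ Q))).comap π with hS
  have hcmod : π c ∈ centralizer ((H.map π : Subgroup (G ⧸ Q)) : Set (G ⧸ Q)) := by
    refine mem_centralizer_iff.2 fun b hb => ?_
    have h1 := hact b hb
    rw [hc, map_mul, map_inv]
    calc b * ((π m)⁻¹ * π x) = (π m)⁻¹ * (π m * b * (π m)⁻¹) * π m * ((π m)⁻¹ * π x) := by group
      _ = (π m)⁻¹ * (π x * b * (π x)⁻¹) * π m * ((π m)⁻¹ * π x) := by rw [h1]
      _ = _ := by group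
  have hcH : cj c H = H := by
    refine eq_of_le_of_card_ge ?_ (card_cj c H).ge
    rintro - ⟨a, ha, rfl⟩
    have h1 : π (c * a * c⁻¹) = π a := by
      have := mem_centralizer_iff.1 hcmod (π a) (mem_map_of_mem π ha)
      rw [map_mul, map_mul, map_inv, ← this, mul_inv_cancel_right]
    show c * a * c⁻¹ ∈ H
    have h2 : a⁻¹ * (c * a * c⁻¹) ∈ Q := QuotientGroup.eq.1 h1.symm
    have := mul_mem ha (hQH h2)
    rwa [mul_inv_cancel_left] at this
  have hcS : c ∈ S := ⟨mem_normalizer_iff_map_conj_eq.2 hcH, hcmod⟩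
  -- `S` acts on `H` as `P ⊓ S` does
  set C := centralizer (H : Set G) with hCdef
  have hCS : C ≤ S := le_inf (centralizer_le_normalizer _) (map_le_iff_le_comap.1
    (map_centralizer_le_centralizer_image _ π |>.trans (by rw [coe_map])))
  have hGC : ∀ g : G, ∃ k : ℕ, g ^ p ^ k ∈ centralizer (Q : Set G) := by
    intro g
    haveI : (centralizer (Q : Set G)).Normal := inferInstance
    set ψ := (QuotientGroup.mk' (centralizer (Q : Set G))).comp (P : Subgroup G).subtype
    have hψ : Function.Surjective ψ := by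
      intro q
      obtain ⟨g, rfl⟩ := QuotientGroup.mk'_surjective _ q
      have hg : g ∈ centralizer (Q : Set G) ⊔ (P : Subgroup G) := hCP ▸ mem_top g
      rw [← SetLike.mem_coe, normal_mul] at hg
      obtain ⟨a, ha, b, hb, rfl⟩ := hg
      refine ⟨⟨b, hb⟩, ?_⟩
      show QuotientGroup.mk' _ b = _
      rw [map_mul, (QuotientGroup.eq_one_iff a).2 ha |> fun h =>
        (show QuotientGroup.mk' (centralizer (Q : Set G)) a = 1 from h), one_mul]
    obtain ⟨k, hk⟩ := (P.2.of_surjective ψ hψ) (QuotientGroup.mk' _ g)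
    rw [← map_pow] at hk
    exact ⟨k, (QuotientGroup.eq_one_iff _).1 hk⟩
  have hpow : ∀ s ∈ S, ∃ k : ℕ, s ^ p ^ k ∈ C := by
    intro s hs
    obtain ⟨k, hk⟩ := hGC s
    obtain ⟨j, hj⟩ := hQp.exists_card_eq
    refine ⟨k + j, ?_⟩
    rw [pow_add, pow_mul]
    set t := s ^ p ^ k with ht
    refine mem_centralizer_iff.2 fun a ha => ?_
    have h1 : π (t * a * t⁻¹) = π a := by
      have := mem_centralizer_iff.1 (pow_mem hs.2 (p ^ k) : t ∈ _) (π a) (mem_map_of_mem π ha)
      rw [map_mul, map_mul, map_inv, ← this, mul_inv_cancel_right]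
    set q := a⁻¹ * (t * a * t⁻¹) with hq
    have hqQ : q ∈ Q := QuotientGroup.eq.1 h1.symm
    have hit : ∀ i : ℕ, t ^ i * a * (t ^ i)⁻¹ = a * q ^ i := by
      intro i
      induction i with
      | zero => simp
      | succ i ihi =>
        have hcomm : t * q ^ i * t⁻¹ = q ^ i := by
          have := mem_centralizer_iff.1 hk (q ^ i) (pow_mem hqQ i)
          rw [← this, mul_inv_cancel_right]
        calc t ^ (i + 1) * a * (t ^ (i + 1))⁻¹ = t * (t ^ i * a * (t ^ i)⁻¹) * t⁻¹ := by
              rw [pow_succ']; group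
          _ = t * a * t⁻¹ * (t * q ^ i * t⁻¹) := by rw [ihi]; group
          _ = a * q * q ^ i := by rw [hcomm, hq, mul_inv_cancel_left]
          _ = a * q ^ (i + 1) := by rw [pow_succ', mul_assoc]
    have h2 := hit (p ^ j)
    have hq1 : q ^ p ^ j = 1 :=
      orderOf_dvd_iff_pow_eq_one.1 (hj ▸ orderOf_dvd_natCard Q hqQ)
    rw [hq1, mul_one] at h2
    exact (mul_inv_eq_iff_eq_mul.1 h2).symm
  have hHnorm : N ≤ (normalizer ((H.map π : Subgroup (G ⧸ Q)) : Set (G ⧸ Q))).comap π :=
    map_le_iff_le_comap.1 (le_normalizer_map π)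
  have hNS : N ≤ normalizer (S : Set G) := Modules.normalizes_inf le_normalizer
    (hHnorm.trans ((comap_mono (Modules.normalizes_centralizer le_rfl)).trans
      (le_normalizer_comap π)))
  have hSN : S ≤ N := inf_le_left
  haveI : (S.subgroupOf N).Normal := normal_subgroupOf_of_le_normalizer hNS
  have hPS : ¬ p ∣ ((P : Subgroup G) ⊓ S).relIndex S := by
    have e : (P : Subgroup G) ⊓ S = ((P : Subgroup G) ⊓ N) ⊓ S := by
      rw [inf_assoc, inf_eq_right.2 hSN]
    intro hd
    rw [e, inf_relIndex_right] at hd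
    refine hsyl (hd.trans ?_)
    have h1 := PSolv.relIndex_dvd_index_of_normal_right (((P : Subgroup G) ⊓ N).subgroupOf N)
      (S.subgroupOf N)
    rwa [relIndex_subgroupOf hSN] at h1
  haveI : (C.subgroupOf S).Normal := normal_subgroupOf_of_le_normalizer
    (hSN.trans (Modules.normalizes_centralizer le_rfl))
  have hpq : IsPGroup p (↥S ⧸ C.subgroupOf S) := by
    intro q
    obtain ⟨s, rfl⟩ := QuotientGroup.mk'_surjective _ q
    obtain ⟨k, hk⟩ := hpow s s.2
    exact ⟨k, by rw [← map_pow]; exact (QuotientGroup.eq_one_iff (s ^ p ^ k)).2 hk⟩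
  obtain ⟨e, he⟩ := hpq.exists_card_eq
  set U := C ⊔ ((P : Subgroup G) ⊓ S) with hU
  have hUS : U ≤ S := sup_le hCS inf_le_right
  have hU1 : U.relIndex S = 1 := by
    have h1 : U.relIndex S ∣ p ^ e := by
      rw [← he]; exact relIndex_dvd_of_le_left S le_sup_left
    have h2 : U.relIndex S ∣ ((P : Subgroup G) ⊓ S).relIndex S :=
      relIndex_dvd_of_le_left S le_sup_right
    exact Nat.eq_one_of_dvd_coprimes
      (((Fact.out : p.Prime).coprime_iff_not_dvd.2 hPS).pow_left e) h1 h2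
  have hcU : c ∈ ((P : Subgroup G) ⊓ S) ⊔ C := by
    rw [sup_comm]
    exact relIndex_eq_one.1 hU1 hcS
  rw [← SetLike.mem_coe, coe_mul_of_left_le_normalizer_right _ _
    ((inf_le_right.trans hSN).trans (Modules.normalizes_centralizer le_rfl))] at hcU
  obtain ⟨v, hv, z, hz, hvz⟩ := hcU
  replace hvz : v * z = c := hvz
  have hvH : ∀ a ∈ H, v * a * v⁻¹ ∈ H := fun a ha => (mem_normalizer_iff.1 (hSN hv.2) a).1 ha
  obtain ⟨m', hm', hma⟩ := controls_in_over _ (IH _ hMne) P D hD hPM (hHP) (y := m * v)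
    (mul_mem hmb (hPM hv.1)) (by
      have e1 : m * v = x * z⁻¹ := by
        have h : x = m * (v * z) := by rw [hvz, hc, mul_inv_cancel_left]
        rw [h]; group
      rw [e1, ← cj_cj, cj_eq_of_mem (inv_mem (centralizer_le_normalizer _ hz)), hxH]
      exact hHP)
  refine ⟨m', hm', fun a ha => ?_⟩
  have hza : z * a * z⁻¹ = a := by
    rw [← mem_centralizer_iff.1 hz a ha, mul_inv_cancel_right]
  calc x * a * x⁻¹ = m * v * (z * a * z⁻¹) * (m * v)⁻¹ := by
        rw [show x = m * (v * z) by rw [hvz, hc, mul_inv_cancel_left]]; group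
    _ = m * v * a * (m * v)⁻¹ := by rw [hza]
    _ = m' * a * m'⁻¹ := hma a ha

/-- The constrained case. -/
theorem controls_of_centralizer_le (P : Sylow p G) (D : Subgroup G)
    (hD : Cfsg.IsStronglyClosed D (P : Subgroup G))
    (hC : (P : Subgroup G) ⊓ centralizer (Cfsg.pCore p G : Set G) ≤ Cfsg.pCore p G)
    (hst : Cfsg.IsNormalizerPStable p G)
    (hF : ∀ (X : Type u) [Group X] [Finite X] (Q : Sylow p X) (E : Subgroup X),
      Cfsg.IsStronglyClosed E (Q : Subgroup X) →
      centralizer (Cfsg.pCore p X : Set X) ≤ Cfsg.pCore p X →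
      H4.ZJStable p (Q : Subgroup X) → (F.W E).Normal) :
    ∀ A : Subgroup G, A ≤ (P : Subgroup G) → ∀ g : G, cj g A ≤ (P : Subgroup G) →
      ActsLike (normalizer (F.W D : Set G)) A g := by
  set Q := Cfsg.pCore p G with hQdef
  set C := centralizer (Q : Set G) with hCdef
  have hcons : Cfsg.IsPConstrained p G := by
    refine CharTwo.isPConstrained_of_centralizer (Q := Q) Cores.pCore_isPGroup
      (PSolv.isPConstrained_of_isPSolvable ?_)
    refine PSolv.isPSolvable_of_extension (Q.subgroupOf C)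
      (PSolv.isPSolvable_of_isPGroup (Cores.pCore_isPGroup (p := p) (G := G)).comap_subtype)
      (PSolv.isPSolvable_of_coprime ?_)
    refine ((Fact.out : p.Prime).coprime_iff_not_dvd.2 fun hd => ?_).symm
    have hd' : p ∣ Q.relIndex C := hd
    have e : (P : Subgroup G) ⊓ C = Q ⊓ C :=
      le_antisymm (le_inf hC inf_le_right) (inf_le_inf_right C (Cores.pCore_le_sylow P))
    have h1 : Q.relIndex C = (P : Subgroup G).relIndex C := by
      rw [← inf_relIndex_right Q C, ← e, inf_relIndex_right]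
    rw [h1] at hd'
    exact Sylow.not_dvd_index P
      (hd'.trans (PSolv.relIndex_dvd_index_of_normal_right (P : Subgroup G) C))
  set K := Cfsg.pPrimeCore p G with hK
  have hπ := QuotientGroup.mk'_surjective K
  have hn : (F.W (D.map (QuotientGroup.mk' K))).Normal := by
    refine hF _ (P.mapSurjective hπ) _
      (by rw [Sylow.coe_mapSurjective]; exact Fusion.sc_map hD _ hπ) ?_ ?_
    · exact PSolv.centralizer_pCore_le_of_isPConstrained
        ((CharTwo.isPConstrained_iff_of_surjective _ hπ CharTwo.mk_ker_coprime).1 hcons)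
        Cores.pPrimeCore_quotient_pPrimeCore_eq_bot
    · rw [Sylow.coe_mapSurjective]
      exact zjStable_quotient _ Cores.pPrimeCore_coprime hst P
  intro A hA g hg
  have hfac := local_factor (F := F) K Cores.pPrimeCore_coprime (P.2.to_le hD.1) hn g
  have hPW : (P : Subgroup G) ≤ normalizer (F.W D : Set G) :=
    ((le_normalizer_iff.2 fun g hg x hx =>
      hD.2 x hx g (mul_mem (mul_mem hg (hD.1 hx)) (inv_mem hg))) :
        (P : Subgroup G) ≤ normalizer (D : Set G)).trans (F.normalizer_le D)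
  exact exists_fusion_in_factor (p := p)
    (by rw [normalizer_eq_top (H := K)]; exact le_top) Cores.pPrimeCore_coprime P.2 hPW hA hfac hg

/-- `Qd(p)`-free: control of fusion. -/
theorem controls_of_qdFree (hp : p ≠ 2)
    (hF : ∀ (X : Type u) [Group X] [Finite X] (Q : Sylow p X) (E : Subgroup X),
      Cfsg.IsStronglyClosed E (Q : Subgroup X) →
      centralizer (Cfsg.pCore p X : Set X) ≤ Cfsg.pCore p X →
      H4.ZJStable p (Q : Subgroup X) → (F.W E).Normal)
    (hqd : ¬ Cfsg.Involves ↥(Cfsg.qd p) G) : Controls F G := by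
  induction hn : Nat.card G using Nat.strong_induction_on generalizing G with
  | _ n ih =>
  subst hn
  have IH : ∀ L : Subgroup G, L ≠ ⊤ → Controls F ↥L := fun L hL =>
    ih _ (lt_of_le_of_ne (card_le_card_group L) fun h => hL (eq_top_of_card_eq L h))
      (fun h => hqd (EvenLocal.involves_subgroup h)) rfl
  by_cases hQ : Cfsg.pCore p G = ⊥
  · exact controls_of_pCore_eq_bot hQ IH
  intro P D hD
  set Q := Cfsg.pCore p G with hQdef
  set C := centralizer (Q : Set G) with hCdef
  by_cases htop : C ⊔ (P : Subgroup G) = ⊤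
  · refine controls_of_top P D hD htop (ih _ ?_ ?_ rfl) IH
    · have h1 := Subgroup.card_eq_card_quotient_mul_card_subgroup Q
      have h2 : 1 < Nat.card Q := (Subgroup.one_lt_card_iff_ne_bot Q).2 hQ
      have h3 : 0 < Nat.card (G ⧸ Q) := Nat.card_pos
      nlinarith
    · intro h
      exact hqd (EvenLocal.involves_of_involves_image (A := (⊤ : Subgroup G))
        ((QuotientGroup.mk' Q).comp (⊤ : Subgroup G).subtype)
        (fun q => ⟨⟨Quotient.out q, mem_top _⟩, QuotientGroup.out_eq' q⟩) h)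
  by_cases hR : (P : Subgroup G) ⊓ (C ⊔ Q) ≤ Q
  · exact controls_of_centralizer_le P D hD ((inf_le_inf_left _ le_sup_left).trans hR)
      (LocalP.QdStab.stable_of_qdFree hp hqd) hF
  · have hKP : (C ⊔ Q) ⊔ (P : Subgroup G) = C ⊔ (P : Subgroup G) := by
      rw [sup_assoc, sup_eq_right.2 (Cores.pCore_le_sylow P)]
    refine controls_of_split P D hD (C ⊔ Q) (hKP ▸ htop) (fun h => hR ?_) IH
    haveI := normalizer_eq_top_iff.1 h
    exact Cores.le_pCore inferInstance (P.2.to_le inf_le_left)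

end Cfsg.Agent.LocEven.QdControl
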